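import Cfsg.Agent.Lib.Ore.Large

/-!
# Extensions with coprime spectra, unipotent blocks
-/

set_option autoImplicit false

open Matrix Polynomial

namespace CfsgLib.Ore

universe u

variable {F : Type u} [Field F]
variable {α β γ δ κ : Type*} [Fintype α] [DecidableEq α] [Fintype β] [DecidableEq β]
  [Fintype γ] [DecidableEq γ] [Fintype δ] [DecidableEq δ] [Fintype κ] [DecidableEq κ]

theorem aeval_fromBlocks (A : Matrix α α F) (B : Matrix β β F) (q : F[X]) :
    aeval (fromBlocks A 0 0 B) q = fromBlocks (aeval A q) 0 0 (aeval B q) := by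
  have hpow : ∀ k, (fromBlocks A 0 0 B) ^ k = fromBlocks (A ^ k) 0 0 (B ^ k) := by
    intro k
    induction k with
    | zero => simp [fromBlocks_one]
    | succ k ih => rw [pow_succ, ih, fromBlocks_multiply]; simp [pow_succ]
  induction q using Polynomial.induction_on' with
  | add p q hp hq => simp [hp, hq, fromBlocks_add]
  | monomial n a => simp [aeval_monomial, hpow, ← Algebra.smul_def, fromBlocks_smul]

theorem isUnit_aeval_of_coprime (M : Matrix α α F) {q f : F[X]} (hf : aeval M f = 0) (h : IsCoprime q f) :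
    IsUnit (aeval M q) := by
  obtain ⟨a, b, hab⟩ := h
  have h1 := congrArg (aeval M) hab
  rw [map_add, map_mul, map_mul, hf, mul_zero, add_zero, map_one] at h1
  exact isUnit_iff_exists.2 ⟨_, mul_eq_one_comm.1 h1, h1⟩

theorem isUnit_aeval_ext1 {K : Matrix κ κ F} {s : F} {q f : F[X]} (hf : aeval K f = 0)
    (hq : IsCoprime q f) (hs : IsCoprime q (X - C s)) : IsUnit (aeval (ext1 K s) q) := by
  refine isUnit_aeval_of_coprime _ (f := f * (X - C s)) ?_ (hq.mul_right hs)
  have h0 : aeval (diagonal fun _ : Unit => s) (X - C s) = 0 := by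
    rw [map_sub, aeval_X, aeval_C, Algebra.algebraMap_eq_smul_one]
    ext i j
    simp
  rw [ext1, aeval_fromBlocks, map_mul, map_mul, hf, h0, Matrix.zero_mul, Matrix.mul_zero]
  simp

/-- some `C` of determinant one, killed by `q`, is similar to `A * C` -/
def Frame (A : Matrix α α F) (q : F[X]) : Prop :=
  ∃ C : Matrix α α F, Sim (A * C) C ∧ C.det = 1 ∧ aeval C q = 0

theorem aeval_sim {A : Matrix α α F} {B : Matrix β β F} (h : Sim A B) {q : F[X]} (hq : aeval B q = 0) :
    aeval A q = 0 := by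
  obtain ⟨P, Q, h1, -, h3⟩ := h
  calc aeval A q = aeval A q * P * Q := by rw [Matrix.mul_assoc, h1, Matrix.mul_one]
    _ = 0 := by rw [aeval_mul_intertwine A B P h3, hq, Matrix.mul_zero, Matrix.zero_mul]

theorem Frame.of_sim {A : Matrix α α F} {B : Matrix β β F} (h : Sim A B) {q : F[X]} (hB : Frame B q) :
    Frame A q := by
  obtain ⟨P, Q, h1, h2, h3⟩ := h
  obtain ⟨C, hC, hd, hq⟩ := hB
  have e : ∀ M : Matrix β β F, Sim (P * M * Q) M := fun M => ⟨P, Q, h1, h2, by
    rw [Matrix.mul_assoc _ Q P, h2, Matrix.mul_one]⟩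
  refine ⟨P * C * Q, ?_, by rw [det_conj_rect h1 h2, hd], aeval_sim (e C) hq⟩
  have : A * (P * C * Q) = P * (B * C) * Q := by simp only [← Matrix.mul_assoc]; rw [h3]
  rw [this]
  exact ((e _).trans hC).trans (e C).symm

/-- an extension of a frame by a link with coprime spectrum -/
theorem isComm_extend {A1 : Matrix α α F} {Z : Matrix α β F} {A2 C2 : Matrix β β F} {K : Matrix κ κ F}
    {s : F} {q : F[X]} (hF : Frame A1 q) (hC2 : Sim C2 (ext1 K s)) (hAC2 : Sim (A2 * C2) (ext1 K s))
    (hu : IsUnit (aeval (ext1 K s) q)) (hd : C2.det = 1) : IsComm (fromBlocks A1 Z 0 A2) := by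
  obtain ⟨C1, hAC1, hd1, hq⟩ := hF
  set M := A1 * C1 with hM
  set N := A2 * C2 with hN
  have hqM : aeval M q = 0 := aeval_sim hAC1 hq
  have hqN : IsUnit (aeval N q) := by
    obtain ⟨P, Q, h1, h2, h3⟩ := hAC2
    have h4 := aeval_mul_intertwine N (ext1 K s) P h3 q
    have h5 : Sim (aeval N q) (aeval (ext1 K s) q) := ⟨P, Q, h1, h2, h4⟩
    rw [Matrix.isUnit_iff_isUnit_det, h5.det_eq, ← Matrix.isUnit_iff_isUnit_det]
    exact hu
  let L : Matrix α β F →ₗ[F] Matrix α β F :=
    { toFun := fun x => x * N - M * x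
      map_add' := fun x y => by simp only [Matrix.add_mul, Matrix.mul_add]; abel
      map_smul' := fun c x => by simp [Matrix.smul_mul, Matrix.mul_smul, smul_sub] }
  have hinj : Function.Injective L := by
    rw [← LinearMap.ker_eq_bot, LinearMap.ker_eq_bot']
    intro x hx
    have hx' : M * x = x * N := (sub_eq_zero.1 hx).symm
    have h6 := aeval_mul_intertwine M N x hx' q
    rw [hqM, Matrix.zero_mul] at h6
    have hdet := (Matrix.isUnit_iff_isUnit_det _).1 hqN
    calc x = x * (aeval N q * (aeval N q)⁻¹) := by rw [Matrix.mul_nonsing_inv _ hdet, Matrix.mul_one]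
      _ = 0 := by rw [← Matrix.mul_assoc, ← h6, Matrix.zero_mul]
  obtain ⟨x, hx⟩ := (LinearMap.injective_iff_surjective.1 hinj) (Z * C2)
  have hx' : M * x + Z * C2 = x * N := by
    rw [← hx]
    show M * x + (x * N - M * x) = x * N
    abel
  have hsplit : Sim (fromBlocks M (Z * C2) 0 N) (fromBlocks M 0 0 N) := by
    refine ⟨fromBlocks 1 x 0 1, fromBlocks 1 (-x) 0 1, by simp [fromBlocks_multiply],
      by simp [fromBlocks_multiply], ?_⟩
    simp [fromBlocks_multiply, hx']
  refine isComm_of_flex (S := fromBlocks C1 0 0 (ext1 K s)) (C := fromBlocks C1 0 0 C2)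
    ((Sim.refl C1).blocks hC2) ?_ (by simp [hd1, hd]) fun c _ =>
      ⟨fromBlocks 1 0 0 (fromBlocks 1 0 0 (diagonal fun _ => c)), ?_, by simp⟩
  · rw [fromBlocks_multiply]
    simp only [Matrix.mul_zero, Matrix.zero_mul, add_zero, zero_add]
    exact hsplit.trans (hAC1.blocks hAC2)
  · simp [ext1, fromBlocks_multiply, mul_comm]

/-- the coupling of two companion matrices -/
def linkZ (F : Type u) [Field F] (m k : ℕ) : Matrix (Fin m) (Fin k) F :=
  of fun i j => if (i : ℕ) = 0 ∧ (j : ℕ) + 1 = k then 1 else 0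

theorem linkZ_mulVec_ev {m k l : ℕ} (h : l < k) :
    linkZ F m k *ᵥ ev F k l = if l + 1 = k then ev F m 0 else 0 := by
  have : ev F k l = Pi.single (⟨l, h⟩ : Fin k) 1 := ev_eq_single ⟨l, h⟩
  rw [this, Matrix.mulVec_single_one]
  split_ifs with hl
  · ext i; simp [linkZ, ev, hl]
  · ext i; simp [linkZ, hl]

/-- a companion matrix is an extension of two smaller ones -/
theorem sim_extend {p g : F[X]} (hp : p.Monic) (hg : g.Monic) (hg0 : 0 < g.natDegree) :
    Sim (comp (cof (p * g)))
      (fromBlocks (comp (cof p)) (linkZ F p.natDegree g.natDegree) 0 (comp (cof g))) := by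
  set P := comp (cof p) with hP
  set G := comp (cof g) with hG
  set Z := linkZ F p.natDegree g.natDegree with hZ
  set M := fromBlocks P Z 0 G with hM
  set v : Fin p.natDegree ⊕ Fin g.natDegree → F := Sum.elim 0 (ev F g.natDegree 0) with hv
  let E : Matrix (Fin p.natDegree ⊕ Fin g.natDegree) (Fin p.natDegree) F := fromRows 1 0
  let R : Matrix (Fin g.natDegree) (Fin p.natDegree ⊕ Fin g.natDegree) F := fromCols 0 1
  have hE : M * E = E * P := by
    simp [M, E, fromBlocks_mul_fromRows, fromRows_mul]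
  have hR : G * R = R * M := by
    simp [M, R, fromCols_mul_fromBlocks, mul_fromCols]
  have hlow : ∀ l, l < g.natDegree → M ^ l *ᵥ v = Sum.elim (0 : Fin p.natDegree → F) (ev F g.natDegree l) := by
    intro l
    induction l with
    | zero => simp [v]
    | succ l ih =>
      intro hl
      rw [pow_succ', ← Matrix.mulVec_mulVec, ih (by omega), hM, fromBlocks_mulVec]
      simp only [Sum.elim_comp_inl, Sum.elim_comp_inr, Matrix.mulVec_zero, zero_add, Matrix.zero_mulVec]
      rw [hZ, linkZ_mulVec_ev (by omega), if_neg (by omega), hG, comp_mulVec_ev _ hl]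
  have hgv : aeval M g *ᵥ v = E *ᵥ ev F p.natDegree 0 := by
    suffices h : aeval M (cpoly (cof g)) *ᵥ v = E *ᵥ ev F p.natDegree 0 by rwa [cpoly_cof hg] at h
    rw [cpoly, map_add, Matrix.add_mulVec, aeval_sum_mulVec, map_pow, aeval_X]
    simp only [hlow _ (Fin.is_lt _), ev_eq_single]
    obtain ⟨k, hk⟩ : ∃ k, g.natDegree = k + 1 := ⟨g.natDegree - 1, by omega⟩
    rw [show M ^ g.natDegree = M * M ^ k by rw [← pow_succ']; exact congrArg (M ^ ·) hk, ← Matrix.mulVec_mulVec, hlow k (by omega), hM,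
      fromBlocks_mulVec]
    simp only [Sum.elim_comp_inl, Sum.elim_comp_inr, Matrix.mulVec_zero, zero_add, Matrix.zero_mulVec]
    rw [hZ, linkZ_mulVec_ev (by omega), if_pos hk.symm, hG, comp_mulVec_last _ hk.symm]
    ext (i | i)
    · simp [E, Finset.sum_apply, fromRows_mulVec]
    · simp [E, Finset.sum_apply, fromRows_mulVec, Pi.single_apply]
  refine (sim_comp ?_ M v ?_ (cof (p * g)) ?_).symm
  · rw [Fintype.card_sum, Fintype.card_fin, Fintype.card_fin, hp.natDegree_mul hg]
  · intro w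
    obtain ⟨b, hb⟩ := comp_cyc (cof g) (w ∘ Sum.inr)
    have hRv : ∀ x : Fin p.natDegree ⊕ Fin g.natDegree → F, R *ᵥ x = x ∘ Sum.inr := fun x => by
      simp [R, fromCols_mulVec]
    have h1 : (w - aeval M b *ᵥ v) ∘ Sum.inr = 0 := by
      rw [← hRv, Matrix.mulVec_sub, Matrix.mulVec_mulVec, ← aeval_mul_intertwine G M R hR,
        ← Matrix.mulVec_mulVec, hRv, hRv]
      simp only [v, Sum.elim_comp_inr]
      rw [hG, hb, sub_self]
    obtain ⟨a, ha⟩ := comp_cyc (cof p) ((w - aeval M b *ᵥ v) ∘ Sum.inl)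
    refine ⟨b + a * g, ?_⟩
    rw [map_add, map_mul, Matrix.add_mulVec, ← Matrix.mulVec_mulVec, hgv, Matrix.mulVec_mulVec,
      aeval_mul_intertwine M P E hE, ← Matrix.mulVec_mulVec, hP, ha]
    have : E *ᵥ ((w - aeval M b *ᵥ v) ∘ Sum.inl) = w - aeval M b *ᵥ v := by
      conv_rhs => rw [← Sum.elim_comp_inl_inr (w - aeval M b *ᵥ v)]
      simp [E, fromRows_mulVec, h1]
    rw [this, add_sub_cancel]
  · rw [cpoly_cof (hp.mul hg), map_mul, ← Matrix.mulVec_mulVec, hgv, Matrix.mulVec_mulVec,
      aeval_mul_intertwine M P E hE, ← Matrix.mulVec_mulVec]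
    have := aeval_comp_ev (cof p)
    rw [cpoly_cof hp] at this
    rw [hP, this, Matrix.mulVec_zero]

theorem sim_two_extend (A : Matrix α α F) (Z : Matrix α β F) (B : Matrix β β F) (A' : Matrix γ γ F)
    (Z' : Matrix γ δ F) (B' : Matrix δ δ F) :
    Sim (fromBlocks (fromBlocks A Z 0 B) 0 0 (fromBlocks A' Z' 0 B'))
      (fromBlocks (fromBlocks A 0 0 A') (fromBlocks Z 0 0 Z') 0 (fromBlocks B 0 0 B')) := by
  refine (Sim.reindex _ (Equiv.sumSumSumComm α γ β δ)).trans (Sim.of_eq ?_)
  ext i j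
  rcases i with (i | i) | (i | i) <;> rcases j with (j | j) | (j | j) <;> rfl

theorem sim_one_extend (A : Matrix α α F) (A' : Matrix γ γ F) (Z' : Matrix γ δ F) (B' : Matrix δ δ F) :
    Sim (fromBlocks A 0 0 (fromBlocks A' Z' 0 B'))
      (fromBlocks (fromBlocks A 0 0 A') (fromRows 0 Z') 0 B') := by
  refine (Sim.reindex _ (Equiv.sumAssoc α γ δ)).trans (Sim.of_eq ?_)
  ext i j
  rcases i with (i | i) | i <;> rcases j with (j | j) | j <;> rfl

theorem deg_one_sub : ((X : F[X]) - 1).natDegree = 1 := by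
  simpa using natDegree_X_sub_C (1 : F)

/-- unipotent blocks of size two -/
theorem sim_jordan_one : Sim (comp (cof (((X - C (1 : F)) ^ 2 : F[X]))))
    (fromBlocks (1 : Matrix (Fin 1) (Fin 1) F) (1 : Matrix (Fin 1) (Fin 1) F) 0 (1 : Matrix (Fin 1) (Fin 1) F)) := by
  rw [sq]
  refine (sim_extend (monic_X_sub_C _) (monic_X_sub_C _) (by rw [natDegree_X_sub_C]; exact Nat.one_pos)).trans
    ((Sim.reindex _ (Equiv.sumCongr (finCongr (natDegree_X_sub_C (1 : F)).symm)
      (finCongr (natDegree_X_sub_C (1 : F)).symm))).trans (Sim.of_eq ?_))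
  ext (i | i) (j | j) <;> fin_cases i <;> fin_cases j <;> simp [comp, cof, linkZ, deg_one_sub]

theorem sim_jordan : ∀ k, Sim (blk (List.replicate k ((X - C (1 : F)) ^ 2)))
    (fromBlocks (1 : Matrix (Fin k) (Fin k) F) (1 : Matrix (Fin k) (Fin k) F) 0 (1 : Matrix (Fin k) (Fin k) F))
  | 0 => by
    have : IsEmpty (Fin (sz (List.replicate 0 ((X - C (1 : F)) ^ 2)))) := Fin.isEmpty'
    exact ⟨0, 0, by ext i; exact isEmptyElim i, by ext i; exact isEmptyElim i, by ext i; exact isEmptyElim i⟩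
  | k + 1 => by
    rw [List.replicate_succ]
    refine (blk_cons _ _).trans ((sim_jordan_one.blocks (sim_jordan k)).trans ?_)
    refine (sim_two_extend _ _ _ _ _ _).trans ((Sim.reindex _ (Equiv.sumCongr (finSumFinEquiv.trans
      (finCongr (Nat.add_comm 1 k))).symm (finSumFinEquiv.trans (finCongr (Nat.add_comm 1 k))).symm)).trans
      (Sim.of_eq ?_))
    simp only [fromBlocks_one]
    ext (i | i) (j | j) <;> simp [Matrix.one_apply]

/-- at least two unipotent blocks of size two -/
theorem good_jordan (k : ℕ) : Good (List.replicate (k + 2) ((X - C (1 : F)) ^ 2)) := by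
  classical
  refine IsComm.of_sim (sim_jordan (k + 2)) ?_
  let b : F := if 1 + (-1 : F) ^ (k + 2) = 0 then 1 else 0
  let c : Fin (k + 2) → F := fun i => if (i : ℕ) = 0 then (-1) ^ (k + 2) else if (i : ℕ) = 1 then b else 0
  have hev : (cpoly c).eval 1 ≠ 0 := by
    rw [cpoly_eval, one_pow, Fin.sum_univ_succ, Fin.sum_univ_succ]
    simp only [c, b, Fin.val_zero, Fin.val_succ, one_pow, mul_one]
    simp
    split_ifs with h
    · rw [← add_assoc, h, zero_add]; exact one_ne_zero
    · rwa [add_zero]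
  have hu := (Matrix.isUnit_iff_isUnit_det _).1 (isUnit_comp_sub c hev)
  rw [one_smul] at hu
  have hd : (comp c).det = 1 := by
    rw [det_comp]; simp [c, ← mul_pow]
  set Y := (comp c - 1)⁻¹
  have hY : comp c * Y = 1 + Y := by
    have := Matrix.mul_nonsing_inv _ hu
    rw [Matrix.sub_mul, Matrix.one_mul] at this
    rw [sub_eq_iff_eq_add] at this
    exact this
  refine ⟨fromBlocks (comp c) 0 0 1, fromBlocks 1 Y 0 1, by simp [hd], by simp, ?_⟩
  simp [fromBlocks_multiply, hY, add_comm Y]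

/-- a unipotent block of size two and one of size one -/
theorem good_jordan_fix : Good [(X - C (1 : F)) ^ 2, X - C (1 : F)] := by
  refine IsComm.of_sim ((blk_cons _ _).trans (sim_jordan_one.blocks (blk_single _))) ?_
  let e : Fin 3 ≃ (Fin 1 ⊕ Fin 1) ⊕ Fin (X - C (1 : F)).natDegree :=
    { toFun := ![.inl (.inl 0), .inr ⟨0, by simp [deg_one_sub]⟩, .inl (.inr 0)]
      invFun := Sum.elim (Sum.elim (fun _ => 0) (fun _ => 2)) (fun _ => 1)
      left_inv := fun i => by fin_cases i <;> rfl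
      right_inv := fun i => by
        rcases i with (i | i) | i
        · fin_cases i; rfl
        · fin_cases i; rfl
        · have : i = ⟨0, by simp [deg_one_sub]⟩ := Fin.ext (by have := i.2; simp [deg_one_sub] at this; omega)
          subst this; rfl }
  refine IsComm.of_sim (Sim.reindex _ e) (IsComm.of_sim (Sim.of_eq (B := !![1, 0, 1; 0, 1, 0; 0, 0, 1]) ?_) ?_)
  · ext i j
    fin_cases i <;> fin_cases j <;> simp [e, comp, cof, deg_one_sub]
  · refine ⟨!![1, 1, 0; 0, 1, 0; 0, 0, 1], !![1, 0, 0; 0, 1, 1; 0, 0, 1], by simp [Matrix.det_fin_three],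
      by simp [Matrix.det_fin_three], ?_⟩
    ext i j
    fin_cases i <;> fin_cases j <;> simp [Matrix.mul_apply, Fin.sum_univ_three]

end CfsgLib.Ore
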