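import Cfsg.Agent.Lib.Ore.Comp

/-!
# The link given by a cyclic block

For a companion matrix `A` of size `m + 2`, any polynomial `h` of degree `m + 1` and scalars `s`,
`t = det A * s` which are no roots of `h`: some `C` is similar to `h ⊕ s` while `A * C` is similar to
`h ⊕ t`. In a suitable basis `A = L * U` with `L` block lower and `U` block upper triangular.
-/

set_option autoImplicit false

open Matrix Polynomial

namespace CfsgLib.Ore

variable {F : Type*} [Field F]
variable {α β : Type*} [Fintype α] [DecidableEq α] [Fintype β] [DecidableEq β]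

theorem Sim.add_smul_one {A : Matrix α α F} {B : Matrix β β F} (h : Sim A B) (s : F) :
    Sim (A + s • (1 : Matrix α α F)) (B + s • (1 : Matrix β β F)) := by
  obtain ⟨P, Q, h1, h2, h3⟩ := h
  exact ⟨P, Q, h1, h2, by simp [Matrix.add_mul, Matrix.mul_add, h3]⟩

theorem Sim.inv {A : Matrix α α F} {B : Matrix β β F} (h : Sim A B) (hA : IsUnit A.det) :
    Sim A⁻¹ B⁻¹ := by
  have hB : IsUnit B.det := h.det_eq ▸ hA
  obtain ⟨P, Q, h1, h2, h3⟩ := h
  refine ⟨P, Q, h1, h2, ?_⟩
  calc A⁻¹ * P = A⁻¹ * (P * (B * B⁻¹)) := by rw [Matrix.mul_nonsing_inv _ hB, Matrix.mul_one]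
    _ = A⁻¹ * (A * P) * B⁻¹ := by rw [h3]; simp only [Matrix.mul_assoc]
    _ = P * B⁻¹ := by rw [← Matrix.mul_assoc A⁻¹ A P, Matrix.nonsing_inv_mul _ hA, Matrix.one_mul]

theorem aeval_mul_intertwine (A : Matrix α α F) (B : Matrix β β F) (P : Matrix α β F)
    (h : A * P = P * B) (q : F[X]) : aeval A q * P = P * aeval B q := by
  induction q using Polynomial.induction_on' with
  | add p q hp hq => rw [map_add, map_add, Matrix.add_mul, Matrix.mul_add, hp, hq]
  | monomial n a =>
    have hn : A ^ n * P = P * B ^ n := by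
      induction n with
      | zero => simp
      | succ n ih => rw [pow_succ, Matrix.mul_assoc, h, ← Matrix.mul_assoc, ih, Matrix.mul_assoc, ← pow_succ]
    rw [aeval_monomial, aeval_monomial, ← Algebra.smul_def, ← Algebra.smul_def, Matrix.smul_mul,
      Matrix.mul_smul, hn]

theorem coeff_divX_iterate (P : F[X]) (j i : ℕ) : (divX^[j] P).coeff i = P.coeff (i + j) := by
  induction j generalizing P with
  | zero => simp
  | succ j ih => rw [Function.iterate_succ_apply, ih, coeff_divX, Nat.add_assoc]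

/-- the shift -/
def shift (F : Type*) [Field F] (k : ℕ) : Matrix (Fin k) (Fin k) F :=
  of fun i j => if (j : ℕ) = i + 1 then 1 else 0

/-- the shift plus a row on the top or bottom -/
theorem exists_rank_one_shift {m : ℕ} (M : Matrix (Fin (m + 1)) (Fin (m + 1)) F) (w : Fin (m + 1) → F)
    (hw : Cyc M w) (z : Fin (m + 1) → F) (hz : z (Fin.last m) ≠ 0) :
    ∃ ρ : Fin (m + 1) → F, Sim (shift F (m + 1) + vecMulVec z ρ) M := by
  classical
  let zx : ℕ → F := fun i => if hi : i < m + 1 then z ⟨i, hi⟩ else 0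
  let B : Matrix (Fin (m + 1)) (Fin (m + 1)) F :=
    of fun j i => if (j : ℕ) ≤ i then zx (m + j - i) else 0
  have hBdet : IsUnit B.det := by
    rw [Matrix.det_of_isUpperTriangular (show B.IsUpperTriangular from fun i j (h : j < i) => if_neg (by
      have : (j : ℕ) < i := h
      omega))]
    refine isUnit_iff_ne_zero.2 (Finset.prod_ne_zero_iff.2 fun i _ => ?_)
    simp [B, zx]
    exact hz
  let χ := M.charpoly
  have hχm : χ.Monic := M.charpoly_monic
  have hχd : χ.natDegree = m + 1 := by rw [Matrix.charpoly_natDegree_eq_dim, Fintype.card_fin]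
  let ρ : Fin (m + 1) → F := (fun i : Fin (m + 1) => -χ.coeff i) ᵥ* B⁻¹
  let R : Matrix (Fin (m + 1)) (Fin (m + 1)) F :=
    of fun i j => (if (i : ℕ) + 1 = j then 1 else 0) + (if (i : ℕ) = m then -χ.coeff j else 0)
  let U : Matrix (Fin (m + 1)) (Fin (m + 1)) F :=
    of fun a i => (aeval M (divX^[(i : ℕ) + 1] χ) *ᵥ w) a
  have hρ : ρ ᵥ* B = fun i : Fin (m + 1) => -χ.coeff i := by
    simp only [ρ, Matrix.vecMul_vecMul, Matrix.nonsing_inv_mul _ hBdet, Matrix.vecMul_one]
  have hlast : ∀ j : Fin (m + 1), B j (Fin.last m) = z j := fun j => by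
    have := j.2
    simp [B, zx, Fin.le_last, show m + (j : ℕ) - m = j by omega]
  -- the two intertwinings
  have h1 : (shift F (m + 1) + vecMulVec z ρ) * B = B * R := by
    rw [Matrix.add_mul, Matrix.vecMulVec_mul, hρ]
    ext j i
    have hj := j.2
    have hi := i.2
    simp only [Matrix.add_apply, Matrix.vecMulVec_apply, Matrix.mul_apply, R, Matrix.of_apply, mul_add,
      Finset.sum_add_distrib, mul_ite, mul_one, mul_zero, shift, ite_mul, one_mul, zero_mul]
    congr 1
    · by_cases hji : (j : ℕ) + 1 ≤ i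
      · rw [Finset.sum_eq_single (⟨j + 1, by omega⟩ : Fin (m + 1)),
          Finset.sum_eq_single (⟨i - 1, by omega⟩ : Fin (m + 1))]
        · simp only [if_true, if_pos (show (i : ℕ) - 1 + 1 = i by omega)]
          simp only [B, Matrix.of_apply]
          rw [if_pos hji, if_pos (by omega)]
          congr 1; omega
        · intro b _ hb
          exact if_neg fun h => hb (Fin.ext (by simp; omega))
        · simp
        · intro b _ hb
          exact if_neg fun h => hb (Fin.ext (by simp; omega))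
        · simp
      · rw [Finset.sum_eq_zero, Finset.sum_eq_zero]
        · intro b _
          split_ifs with h
          · simp only [B, Matrix.of_apply]; rw [if_neg (by omega)]
          · rfl
        · intro b _
          split_ifs with h
          · simp only [B, Matrix.of_apply]; rw [if_neg (by omega)]
          · rfl
    · rw [Finset.sum_eq_single (Fin.last m)]
      · simp [hlast]
      · intro b _ hb
        exact if_neg fun h => hb (Fin.ext (by simpa using h))
      · simp
  have hUlast : U *ᵥ Pi.single (Fin.last m) 1 = w := by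
    rw [Matrix.mulVec_single_one]
    have : divX^[m + 1] χ = 1 := by
      ext i
      rw [coeff_divX_iterate, coeff_one]
      rcases Nat.eq_zero_or_pos i with rfl | hi
      · rw [Nat.zero_add, ← hχd]; simpa using hχm.coeff_natDegree
      · rw [if_neg hi.ne']; exact coeff_eq_zero_of_natDegree_lt (by omega)
    ext a
    show (aeval M (divX^[(Fin.last m : ℕ) + 1] χ) *ᵥ w) a = w a
    rw [Fin.val_last, this]
    simp
  have h2 : M * U = U * R := by
    refine Matrix.ext_iff_mulVec.2 fun x => ?_
    rw [pi_eq_sum_univ' x]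
    simp only [Matrix.mulVec_sum, Matrix.mulVec_smul]
    refine Finset.sum_congr rfl fun i _ => ?_
    congr 1
    rw [← Matrix.mulVec_mulVec, ← Matrix.mulVec_mulVec, Matrix.mulVec_single_one, Matrix.mulVec_single_one]
    have hU : ∀ l : Fin (m + 1), U.col l = aeval M (divX^[(l : ℕ) + 1] χ) *ᵥ w := fun l => rfl
    have hstep : M *ᵥ U.col i = (aeval M (divX^[(i : ℕ)] χ) *ᵥ w) - χ.coeff i • w := by
      have h := X_mul_divX_add (divX^[(i : ℕ)] χ)
      rw [← Function.iterate_succ_apply' divX, coeff_divX_iterate, Nat.zero_add] at h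
      conv_rhs => rw [← h]
      rw [hU, map_add, Matrix.add_mulVec, map_mul, aeval_X, aeval_C, ← Matrix.mulVec_mulVec,
        Algebra.algebraMap_eq_smul_one, Matrix.smul_mulVec, Matrix.one_mulVec, add_sub_cancel_right]
    rw [hstep]
    have hR : R.col i = (fun l : Fin (m + 1) => if (l : ℕ) + 1 = i then (1 : F) else 0) +
        (-χ.coeff i) • Pi.single (Fin.last m) 1 := by
      ext l
      simp [R, Pi.single_apply, Fin.ext_iff]
      split_ifs <;> simp
    rw [hR, Matrix.mulVec_add, Matrix.mulVec_smul, hUlast, neg_smul, ← sub_eq_add_neg]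
    congr 1
    by_cases hi : (i : ℕ) = 0
    · rw [hi, Function.iterate_zero_apply, Matrix.aeval_self_charpoly, Matrix.zero_mulVec]
      rw [show (fun l : Fin (m + 1) => if (l : ℕ) + 1 = 0 then (1 : F) else 0) = 0 from
        funext fun l => by simp, Matrix.mulVec_zero]
    · have hi2 := i.2
      rw [show (fun l : Fin (m + 1) => if (l : ℕ) + 1 = i then (1 : F) else 0) =
          Pi.single (⟨i - 1, by omega⟩ : Fin (m + 1)) 1 from funext fun l => by
        simp only [Pi.single_apply, Fin.ext_iff]; split_ifs <;> first | rfl | omega,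
        Matrix.mulVec_single_one, hU]
      simp only [show (i : ℕ) - 1 + 1 = i by omega]
  obtain ⟨Ui, hU1, hU2⟩ := exists_inv_of_surj rfl U fun x => by
    obtain ⟨q, rfl⟩ := hw x
    exact ⟨aeval R q *ᵥ Pi.single (Fin.last m) 1, by
      rw [Matrix.mulVec_mulVec, ← aeval_mul_intertwine M R U h2 q, ← Matrix.mulVec_mulVec, hUlast]⟩
  refine ⟨ρ, Sim.trans (B := R) ⟨B, B⁻¹, ?_, ?_, h1⟩ (Sim.symm ⟨U, Ui, hU1, hU2, h2⟩)⟩
  · exact Matrix.mul_nonsing_inv _ hBdet
  · exact Matrix.nonsing_inv_mul _ hBdet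

/-- the next vector is the image minus prescribed earlier ones -/
noncomputable def adapt (A : Matrix α α F) (v : α → F) (K : ℕ → ℕ → F) : ℕ → α → F
  | 0 => v
  | j + 1 => A *ᵥ adapt A v K j - ∑ i : Fin (j + 1), K i j • adapt A v K i
termination_by j => j

theorem adapt_tri {k : ℕ} (a : Fin (k + 1) → F) (K : ℕ → ℕ → F) :
    ∀ j, j ≤ k → ∀ i : Fin (k + 1), j ≤ (i : ℕ) →
      adapt (comp a) (ev F (k + 1) 0) K j i = if (i : ℕ) = j then 1 else 0 := by
  intro j
  induction j using Nat.strongRecOn with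
  | _ j ih =>
    intro hj i hi
    cases j with
    | zero => rw [adapt]; rfl
    | succ j =>
      rw [adapt, Pi.sub_apply, Finset.sum_apply, Finset.sum_eq_zero, sub_zero]
      · have hi' := i.2
        rw [Matrix.mulVec, dotProduct, Finset.sum_eq_single (⟨i - 1, by omega⟩ : Fin (k + 1))]
        · rw [ih j (by omega) (by omega) _ (by simp; omega)]
          simp only [comp, Matrix.of_apply, if_neg (show ¬((i : ℕ) - 1 + 1 = k + 1) by omega),
            if_pos (show (i : ℕ) = (i : ℕ) - 1 + 1 by omega), one_mul]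
          split_ifs <;> first | rfl | omega
        · intro b _ hb
          by_cases hb2 : (b : ℕ) + 1 = k + 1
          · rw [ih j (by omega) (by omega) b (by omega), if_neg (by omega), mul_zero]
          · simp only [comp, Matrix.of_apply, if_neg hb2]
            rw [if_neg fun h => hb (Fin.ext (by simp; omega)), zero_mul]
        · simp
      · intro l _
        have hl := l.2
        rw [Pi.smul_apply, ih l (by omega) (by omega) i (by omega), if_neg (by omega), smul_zero]

/-- a block lower triangular matrix splits -/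
theorem sim_lower {k : ℕ} (C : Matrix (Fin k) (Fin k) F) (r : Matrix Unit (Fin k) F) (t : F)
    (h : IsUnit (C - t • (1 : Matrix (Fin k) (Fin k) F))) :
    Sim (fromBlocks C 0 r (diagonal fun _ => t)) (ext1 C t) := by
  obtain ⟨E, hE⟩ := h
  let y : Matrix Unit (Fin k) F := r * ((E⁻¹ : (Matrix (Fin k) (Fin k) F)ˣ) : Matrix (Fin k) (Fin k) F)
  refine ⟨fromBlocks 1 0 y 1, fromBlocks 1 0 (-y) 1, by simp [fromBlocks_multiply],
    by simp [fromBlocks_multiply], ?_⟩
  have hy : r + (diagonal fun _ : Unit => t) * y = y * C := by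
    have h1 : y * (E : Matrix (Fin k) (Fin k) F) = r := by
      simp only [y, Matrix.mul_assoc, Units.inv_mul, Matrix.mul_one]
    rw [← h1, hE, Matrix.mul_sub, Matrix.mul_smul, Matrix.mul_one,
      show (diagonal fun _ : Unit => t) * y = t • y by ext i j; simp, sub_add_cancel]
  simp [ext1, fromBlocks_multiply, hy]

/-- a block upper triangular matrix splits -/
theorem sim_upper {k : ℕ} (Y : Matrix (Fin k) (Fin k) F) (u : Matrix (Fin k) Unit F) (s : F)
    (h : IsUnit (Y - s • (1 : Matrix (Fin k) (Fin k) F))) :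
    Sim (fromBlocks Y u 0 (diagonal fun _ => s)) (ext1 Y s) := by
  obtain ⟨E, hE⟩ := h
  let x : Matrix (Fin k) Unit F := -(((E⁻¹ : (Matrix (Fin k) (Fin k) F)ˣ) : Matrix (Fin k) (Fin k) F) * u)
  refine ⟨fromBlocks 1 x 0 1, fromBlocks 1 (-x) 0 1, by simp [fromBlocks_multiply],
    by simp [fromBlocks_multiply], ?_⟩
  have hx : Y * x + u = x * (diagonal fun _ : Unit => s) := by
    have h1 : (E : Matrix (Fin k) (Fin k) F) * x = -u := by
      simp only [x, Matrix.mul_neg, ← Matrix.mul_assoc, Units.mul_inv, Matrix.one_mul]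
    rw [hE, Matrix.sub_mul, Matrix.smul_mul, Matrix.one_mul, sub_eq_iff_eq_add] at h1
    rw [h1, show x * (diagonal fun _ : Unit => s) = s • x by ext i j; simp [mul_comm]]
    abel
  simp [ext1, fromBlocks_multiply, hx]

/-- the link of a cyclic block, with the common part exposed -/
theorem exists_link {m : ℕ} (a : Fin (m + 2) → F) (ha : a 0 ≠ 0) (c : Fin (m + 1) → F) (s t : F)
    (hs : s ≠ 0) (ht : t = (comp a).det * s) (hc : c 0 ≠ 0) (h1 : (cpoly c).eval s ≠ 0)
    (h2 : (cpoly c).eval t ≠ 0) : ∃ C : Matrix (Fin (m + 2)) (Fin (m + 2)) F,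
      Sim C (ext1 (comp c) s) ∧ Sim (comp a * C) (ext1 (comp c) t) := by
  set C := comp c with hC
  have hCd : IsUnit C.det := by
    rw [hC, det_comp]; exact isUnit_iff_ne_zero.2 (mul_ne_zero (pow_ne_zero _ (by simp)) hc)
  have ht0 : t ≠ 0 := by
    rw [ht, det_comp]; exact mul_ne_zero (mul_ne_zero (pow_ne_zero _ (by simp)) ha) hs
  -- `C⁻¹ - 1` is cyclic
  set M := C⁻¹ + (-1 : F) • (1 : Matrix (Fin (m + 1)) (Fin (m + 1)) F) with hM
  have hstep : ∀ j, j < m → C⁻¹ *ᵥ ev F (m + 1) (j + 1) = ev F (m + 1) j := fun j hj => by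
    rw [← comp_mulVec_ev c (show j + 1 < m + 1 by omega), Matrix.mulVec_mulVec,
      Matrix.nonsing_inv_mul _ hCd, Matrix.one_mulVec]
  have hpow : ∀ l, l ≤ m → aeval M ((X + 1 : F[X]) ^ l) *ᵥ ev F (m + 1) m = ev F (m + 1) (m - l) := by
    intro l
    induction l with
    | zero => simp
    | succ l ih =>
      intro hl
      rw [pow_succ', map_mul, ← Matrix.mulVec_mulVec, ih (by omega), map_add, aeval_X, map_one, hM]
      rw [neg_one_smul, neg_add_cancel_right, show m - l = (m - (l + 1)) + 1 by omega,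
        hstep _ (by omega)]
  have hcyc : Cyc M (ev F (m + 1) m) := fun w => by
    refine ⟨∑ i : Fin (m + 1), Polynomial.C (w i) * (X + 1 : F[X]) ^ (m - (i : ℕ)), ?_⟩
    rw [map_sum, Matrix.sum_mulVec]
    conv_rhs => rw [pi_eq_sum_univ' w]
    refine Finset.sum_congr rfl fun i _ => ?_
    rw [map_mul, aeval_C, ← Algebra.smul_def, Matrix.smul_mulVec, hpow _ (Nat.sub_le _ _),
      Nat.sub_sub_self (Nat.lt_succ_iff.1 i.2), ev_eq_single]
  set z := C⁻¹ *ᵥ ev F (m + 1) 0 with hzdef
  have hCz : C *ᵥ z = ev F (m + 1) 0 := by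
    rw [hzdef, Matrix.mulVec_mulVec, Matrix.mul_nonsing_inv _ hCd, Matrix.one_mulVec]
  have hz : z (Fin.last m) ≠ 0 := by
    intro h0
    have h := congrFun hCz 0
    rw [Matrix.mulVec, dotProduct, Finset.sum_eq_zero] at h
    · simp [ev] at h
    · intro j _
      by_cases hj : (j : ℕ) + 1 = m + 1
      · rw [show j = Fin.last m from Fin.ext (by simp; omega), h0, mul_zero]
      · simp [hC, comp, show (j : ℕ) ≠ m by omega]
  obtain ⟨ρ, hρ⟩ := exists_rank_one_shift M _ hcyc z hz
  set Y := shift F (m + 1) + vecMulVec z ρ + (1 : F) • (1 : Matrix (Fin (m + 1)) (Fin (m + 1)) F) with hY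
  have hYC : Sim Y C⁻¹ := by
    have := hρ.add_smul_one 1
    rwa [← hY, hM, add_assoc, ← add_smul, neg_add_cancel, zero_smul, add_zero] at this
  have hYd : Y.det * C.det = 1 := by
    rw [hYC.det_eq, ← det_mul, Matrix.nonsing_inv_mul _ hCd, det_one]
  have hYu : IsUnit Y.det := IsUnit.of_mul_eq_one _ hYd
  -- the entries of `C * Y` below the diagonal
  have hCY : ∀ i j : Fin (m + 1), (j : ℕ) < i → (C * Y) i j = if (i : ℕ) = j + 1 then 1 else 0 := by
    intro i j hij
    have hi := i.2
    rw [hY, Matrix.mul_add, Matrix.mul_add, Matrix.mul_smul, Matrix.mul_one, one_smul,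
      Matrix.mul_vecMulVec, hCz, Matrix.add_apply, Matrix.add_apply, Matrix.vecMulVec_apply]
    have h0 : ev F (m + 1) 0 i = 0 := if_neg (by omega)
    rw [h0, zero_mul, add_zero, Matrix.mul_apply, Finset.sum_eq_zero, zero_add]
    · simp only [hC, comp, Matrix.of_apply, if_neg (show ¬((j : ℕ) + 1 = m + 1) by omega)]
    · intro b _
      simp only [shift, Matrix.of_apply]
      split_ifs with hb
      · rw [mul_one]
        simp only [hC, comp, Matrix.of_apply, if_neg (show ¬((b : ℕ) + 1 = m + 1) by omega),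
          if_neg (show ¬((i : ℕ) = (b : ℕ) + 1) by omega)]
      · rw [mul_zero]
  let K : ℕ → ℕ → F := fun i j => if h : i < m + 1 ∧ j < m + 1 then (C * Y) ⟨i, h.1⟩ ⟨j, h.2⟩ else 0
  let v := adapt (comp a) (ev F (m + 1 + 1) 0) K
  let e : Fin (m + 1) ⊕ Unit ≃ Fin (m + 1 + 1) :=
    { toFun := Sum.elim Fin.castSucc (fun _ => Fin.last (m + 1))
      invFun := fun i => if h : (i : ℕ) < m + 1 then .inl ⟨i, h⟩ else .inr ()
      left_inv := fun i => by
        rcases i with i | ⟨⟩
        · simp [i.is_lt]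
        · simp
      right_inv := fun i => by
        by_cases h : (i : ℕ) < m + 1
        · simp [h]
        · simp [h]; exact Fin.ext (by have := i.2; simp; omega) }
  let P : Matrix (Fin (m + 1 + 1)) (Fin (m + 1 + 1)) F := of fun r j => v j r
  have hP : IsUnit P.det := by
    rw [Matrix.det_of_isUpperTriangular (show P.IsUpperTriangular from fun i j (h : j < i) => by
      have h' : (j : ℕ) < i := h
      show v j i = 0
      exact (adapt_tri (k := m + 1) a K j (by omega) i h'.le).trans (if_neg (by omega)))]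
    refine isUnit_iff_ne_zero.2 (Finset.prod_ne_zero_iff.2 fun i _ => ?_)
    show v i i ≠ 0
    exact ((adapt_tri (k := m + 1) a K i (by have := i.2; omega) i le_rfl).trans (if_pos rfl)).trans_ne one_ne_zero
  let H := (P⁻¹ * comp a * P).submatrix e e
  have hH : Sim (comp a) H :=
    (show Sim (comp a) (P⁻¹ * comp a * P) from ⟨P, P⁻¹, Matrix.mul_nonsing_inv _ hP,
      Matrix.nonsing_inv_mul _ hP, by
        rw [← Matrix.mul_assoc, ← Matrix.mul_assoc, Matrix.mul_nonsing_inv _ hP, Matrix.one_mul]⟩).trans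
      (Sim.reindex _ e)
  let r : Matrix Unit (Fin (m + 1)) F :=
    (of fun _ j => if (j : ℕ) = m then (1 : F) else 0 : Matrix Unit (Fin (m + 1)) F) * Y⁻¹
  let L := fromBlocks C 0 r (diagonal fun _ : Unit => t)
  have hL : IsUnit L.det := by
    simp only [L, Matrix.det_fromBlocks_zero₁₂]
    exact hCd.mul (isUnit_iff_ne_zero.2 (by simp [ht0]))
  -- the first columns
  have hcol : ∀ (i : Fin (m + 1) ⊕ Unit) (j : Fin (m + 1)), H i (.inl j) =
      Sum.elim (fun i => (C * Y) i j) (fun _ => if (j : ℕ) = m then 1 else 0) i := by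
    intro i j
    have hj := j.2
    let x : Fin (m + 1 + 1) → F := fun r => if (r : ℕ) = j + 1 then 1
      else if (r : ℕ) ≤ j then K r j else 0
    have hx : P *ᵥ x = comp a *ᵥ (fun r => P r (Fin.castSucc j)) := by
      have hv : comp a *ᵥ (fun r => P r (Fin.castSucc j)) =
          v (j + 1) + ∑ l : Fin ((j : ℕ) + 1), K l j • v l := by
        show comp a *ᵥ v j = _
        rw [show v ((j : ℕ) + 1) = _ by simp only [v]; rw [adapt], sub_add_cancel]
      rw [hv]
      ext r
      rw [Matrix.mulVec, dotProduct, Pi.add_apply, Finset.sum_apply]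
      rw [Fin.sum_univ_eq_sum_range (fun l => (K l j • v l) r) ((j : ℕ) + 1)]
      have : ∀ l : Fin (m + 1 + 1), P r l * x l = (fun l : ℕ => (if l = (j : ℕ) + 1 then v l r else 0) +
          (if l ≤ (j : ℕ) then (K l j • v l) r else 0)) l := fun l => by
        simp only [P, x, Matrix.of_apply, Pi.smul_apply, smul_eq_mul]
        split_ifs <;> first | omega | ring
      rw [Finset.sum_congr rfl fun l _ => this l]
      rw [Fin.sum_univ_eq_sum_range (fun l : ℕ => (if l = (j : ℕ) + 1 then v l r else 0) +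
          (if l ≤ (j : ℕ) then (K l j • v l) r else 0)) (m + 1 + 1), Finset.sum_add_distrib,
        Finset.sum_ite_eq', if_pos (Finset.mem_range.2 (by omega)), ← Finset.sum_filter]
      congr 1
      refine Finset.sum_congr (Finset.ext fun l => ?_) fun _ _ => rfl
      simp only [Finset.mem_filter, Finset.mem_range]; omega
    have hcx : (fun r => (P⁻¹ * comp a * P) r (Fin.castSucc j)) = x := by
      have h := congrArg (P⁻¹ *ᵥ ·) hx
      simp only [Matrix.mulVec_mulVec, Matrix.nonsing_inv_mul _ hP, Matrix.one_mulVec] at h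
      rw [h]
      ext r
      simp [Matrix.mul_apply, Matrix.mulVec, dotProduct]
    have hi : H i (.inl j) = x (e i) := congrFun hcx (e i)
    rw [hi]
    rcases i with i | ⟨⟩
    · show x (Fin.castSucc i) = (C * Y) i j
      simp only [x, Fin.val_castSucc]
      by_cases h : (i : ℕ) ≤ j
      · rw [if_neg (by omega), if_pos h]
        simp only [K]
        rw [dif_pos ⟨i.2, j.2⟩]
      · rw [hCY i j (by omega)]
        split_ifs <;> rfl
    · show x (Fin.last (m + 1)) = if (j : ℕ) = m then 1 else 0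
      simp only [x, Fin.val_last]
      split_ifs <;> first | rfl | omega
  -- the upper factor
  let U := L⁻¹ * H
  have hLU : L * U = H := by
    simp only [U, ← Matrix.mul_assoc, Matrix.mul_nonsing_inv _ hL, Matrix.one_mul]
  have hU : U = fromBlocks Y U.toBlocks₁₂ 0 (diagonal fun _ => s⁻¹) := by
    have hfirst : ∀ i j, U i (.inl j) = fromBlocks Y U.toBlocks₁₂ 0 (diagonal fun _ => s⁻¹) i (.inl j) := by
      intro i j
      have hvec : L *ᵥ (fun l => fromBlocks Y U.toBlocks₁₂ 0 (diagonal fun _ => s⁻¹) l (.inl j)) =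
          fun i => H i (.inl j) := by
        ext i
        rw [hcol]
        have hr : r * Y = of fun (_ : Unit) (j : Fin (m + 1)) => if (j : ℕ) = m then (1 : F) else 0 := by
          simp only [r, Matrix.mul_assoc, Matrix.nonsing_inv_mul _ hYu, Matrix.mul_one]
        have hr' := congrFun (congrFun hr ()) j
        rw [Matrix.mul_apply] at hr'
        rcases i with i | ⟨⟩ <;> simp [L, Matrix.mulVec, dotProduct, Fintype.sum_sum_type, Matrix.mul_apply]
        simpa using hr'
      have h := congrArg (L⁻¹ *ᵥ ·) hvec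
      simp only [Matrix.mulVec_mulVec, Matrix.nonsing_inv_mul _ hL, Matrix.one_mulVec] at h
      rw [congrFun h i]
      simp [U, Matrix.mulVec, dotProduct, Matrix.mul_apply]
    have h22 : U (.inr ()) (.inr ()) = s⁻¹ := by
      have hform : U = fromBlocks Y U.toBlocks₁₂ 0 U.toBlocks₂₂ := by
        ext i (j | ⟨⟩)
        · rw [hfirst]; rcases i with i | i <;> rfl
        · rcases i with i | i <;> rfl
      have h := congrArg Matrix.det hLU
      rw [det_mul, ← hH.det_eq, hform, Matrix.det_fromBlocks_zero₂₁] at h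
      simp only [L, Matrix.det_fromBlocks_zero₁₂, Matrix.det_unique, diagonal_apply_eq] at h
      rw [show U.toBlocks₂₂ default default = U (.inr ()) (.inr ()) from rfl] at h
      have hTU : t * U (.inr ()) (.inr ()) = (comp a).det := by
        linear_combination h - t * U (.inr ()) (.inr ()) * hYd
      have h3 : t * (U (.inr ()) (.inr ()) * s) = t * 1 := by
        linear_combination s * hTU - ht
      exact eq_inv_of_mul_eq_one_left (mul_left_cancel₀ ht0 h3)
    ext i (j | ⟨⟩)
    · exact hfirst i j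
    · rcases i with i | ⟨⟩
      · rfl
      · simp [h22]
  have hUd : IsUnit U.det := by
    rw [hU, Matrix.det_fromBlocks_zero₂₁]
    exact hYu.mul (isUnit_iff_ne_zero.2 (by simp [hs]))
  have hYs : IsUnit (Y - s⁻¹ • (1 : Matrix (Fin (m + 1)) (Fin (m + 1)) F)) := by
    have hsim := hYC.add_smul_one (-s⁻¹)
    simp only [neg_smul, ← sub_eq_add_neg] at hsim
    rw [Matrix.isUnit_iff_isUnit_det, hsim.det_eq]
    have : C⁻¹ - s⁻¹ • (1 : Matrix (Fin (m + 1)) (Fin (m + 1)) F) =
        (-s⁻¹) • (C⁻¹ * (C - s • 1)) := by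
      rw [Matrix.mul_sub, Matrix.nonsing_inv_mul _ hCd, Matrix.mul_smul, Matrix.mul_one, smul_sub,
        smul_smul, neg_mul, inv_mul_cancel₀ hs, neg_smul, neg_smul, one_smul]
      abel
    rw [this, det_smul, det_mul]
    refine ((isUnit_iff_ne_zero.2 (by simp [hs])).pow _).mul (IsUnit.mul ?_ ?_)
    · exact Matrix.isUnit_nonsing_inv_det _ hCd
    · exact (Matrix.isUnit_iff_isUnit_det _).1 (isUnit_comp_sub c h1)
  have hCm : Sim U⁻¹ (ext1 C s) := by
    have h : Sim U (ext1 C⁻¹ s⁻¹) := by
      rw [hU]; exact (sim_upper _ _ _ hYs).trans (Sim.blocks hYC (Sim.refl _))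
    refine (h.inv hUd).trans (Sim.of_eq (Matrix.inv_eq_right_inv ?_))
    simp [ext1, fromBlocks_multiply, Matrix.nonsing_inv_mul _ hCd, hs]
  obtain ⟨P', Q', h1', h2', h3'⟩ := hH
  have econj : ∀ M : Matrix (Fin (m + 1) ⊕ Unit) (Fin (m + 1) ⊕ Unit) F, Sim (P' * M * Q') M := fun M => ⟨P', Q', h1', h2', by
    rw [Matrix.mul_assoc _ Q' P', h2', Matrix.mul_one]⟩
  refine ⟨P' * U⁻¹ * Q', (econj _).trans hCm, ?_⟩
  have hAC : comp a * (P' * U⁻¹ * Q') = P' * (H * U⁻¹) * Q' := by
    simp only [← Matrix.mul_assoc]; rw [h3']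
  rw [hAC]
  refine (econj _).trans ?_
  rw [← hLU, Matrix.mul_assoc, Matrix.mul_nonsing_inv _ hUd, Matrix.mul_one]
  exact sim_lower C r t (isUnit_comp_sub c h2)

/-- the link of a cyclic block -/
theorem step_block {m : ℕ} (a : Fin (m + 2) → F) (ha : a 0 ≠ 0) (c : Fin (m + 1) → F) (s t : F)
    (hs : s ≠ 0) (ht : t = (comp a).det * s) (hc : c 0 ≠ 0) (h1 : (cpoly c).eval s ≠ 0)
    (h2 : (cpoly c).eval t ≠ 0) : Step (comp a) s t ((comp c).det * s) := by
  obtain ⟨C, hC, hAC⟩ := exists_link a ha c s t hs ht hc h1 h2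
  exact Step.mk' hC hAC (by rw [hC.det_eq, ext1_det])

end CfsgLib.Ore
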