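import Cfsg.Agent.Lib.Ore.Diag

/-!
# Closing chains of blocks
-/

set_option autoImplicit false

open Matrix Polynomial

namespace CfsgLib.Ore

universe u

variable {F : Type u} [Field F]

theorem dd_mul {g h : F[X]} (hg : g.Monic) (hh : h.Monic) : dd (g * h) = dd g * dd h := by
  rw [dd, dd, dd, hg.natDegree_mul hh, mul_coeff_zero, pow_add]; ring

theorem dd_X_sub_C (a : F) : dd (X - C a) = a := by
  simp [dd]

theorem dd_ne_zero {g : F[X]} (h : g.coeff 0 ≠ 0) : dd g ≠ 0 :=
  mul_ne_zero (pow_ne_zero _ (by simp)) h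

/-- a block usable in a chain -/
def Blkish (g : F[X]) : Prop := g.Monic ∧ g.coeff 0 ≠ 0 ∧ 0 < g.natDegree

theorem PP.blkish {g : F[X]} (h : PP g) : Blkish g := ⟨h.monic, h.1, h.deg_pos⟩

theorem Blkish.mul {g h : F[X]} (hg : Blkish g) (hh : Blkish h) : Blkish (g * h) := by
  refine ⟨hg.1.mul hh.1, ?_, ?_⟩
  · rw [mul_coeff_zero]; exact mul_ne_zero hg.2.1 hh.2.1
  · rw [hg.1.natDegree_mul hh.1]; exact Nat.lt_of_lt_of_le hg.2.2 (Nat.le_add_right _ _)

/-- some link starts everywhere -/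
def Ok (g : F[X]) : Prop := ∀ s, s ≠ 0 → ∃ d, d ≠ 0 ∧ StepL [g] s (dd g * s) d

theorem exists_poly (m : ℕ) (hm : 2 ≤ m) (c : F) {s t : F} (hs : s ≠ 0) (ht : t ≠ 0) (h : s = t ∨ ∃ w : F, w ≠ 0 ∧ w ≠ 1) :
    ∃ p : F[X], p.Monic ∧ p.natDegree = m ∧ p.coeff 0 = c ∧ p.eval s ≠ 0 ∧ p.eval t ≠ 0 := by
  have hb : ∀ b1 b2 : F, (b1 = b2 ∨ ∃ w : F, w ≠ 0 ∧ w ≠ 1) → ∃ b, b ≠ b1 ∧ b ≠ b2 := by
    intro b1 b2 hh
    by_cases he : b1 = b2
    · exact ⟨b1 + 1, by simp, by simp [← he]⟩
    · obtain ⟨w, hw0, hw1⟩ := hh.resolve_left he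
      refine ⟨b1 + w * (b2 - b1), fun h0 => ?_, fun h0 => ?_⟩
      · exact mul_ne_zero hw0 (sub_ne_zero.2 (Ne.symm he)) (by linear_combination h0)
      · have : (w - 1) * (b2 - b1) = 0 := by linear_combination h0
        exact mul_ne_zero (sub_ne_zero.2 hw1) (sub_ne_zero.2 (Ne.symm he)) this
  obtain ⟨b, hb1, hb2⟩ := hb (-(s ^ m + c) / s) (-(t ^ m + c) / t) (h.imp (fun e => by rw [e]) id)
  let p : F[X] := X ^ m + (C b * X + C c)
  have hdeg : (C b * X + C c).degree < (m : WithBot ℕ) :=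
    lt_of_le_of_lt (degree_linear_le) (by exact_mod_cast hm)
  have hp : p.Monic := monic_X_pow_add hdeg
  have hev : ∀ x, p.eval x = x ^ m + b * x + c := fun x => by simp [p, add_assoc]
  refine ⟨p, hp, ?_, ?_, ?_, ?_⟩
  · refine natDegree_eq_of_degree_eq_some ?_
    rw [degree_add_eq_left_of_degree_lt (by rw [degree_X_pow]; exact hdeg), degree_X_pow]
  · simp [p, show (0 : ℕ) ≠ m by omega]
  · rw [hev]; intro h0; apply hb1
    rw [eq_div_iff hs]; linear_combination h0
  · rw [hev]; intro h0; apply hb2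
    rw [eq_div_iff ht]; linear_combination h0

/-- blocks of size at least three give links of every determinant -/
theorem knob {g : F[X]} (hg : Blkish g) (h3 : 3 ≤ g.natDegree) {s d : F} (hs : s ≠ 0) (hd : d ≠ 0)
    (hw : dd g = 1 ∨ ∃ w : F, w ≠ 0 ∧ w ≠ 1) : StepL [g] s (dd g * s) d := by
  obtain ⟨p, hp, hdeg, hp0, he1, he2⟩ := exists_poly (g.natDegree - 1) (by omega)
    ((-1) ^ (g.natDegree - 1) * (d / s))
    (t := dd g * s) hs (mul_ne_zero (dd_ne_zero hg.2.1) hs) (hw.imp (fun e => by rw [e, one_mul]) id)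
  refine (stepL_block hg.1 hg.2.1 hp (by omega) (by omega)
    (by rw [hp0]; exact mul_ne_zero (pow_ne_zero _ (by simp)) (div_ne_zero hd hs)) hs he1 he2).of_eq rfl rfl ?_
  rw [dd, hp0, hdeg, ← mul_assoc, ← mul_pow, neg_one_mul, neg_neg, one_pow, one_mul, div_mul_cancel₀ _ hs]

/-- links of size two from a scalar -/
theorem stepL_quad {g : F[X]} (hg : g.Monic) (hg0 : g.coeff 0 ≠ 0) (h2 : g.natDegree = 2) {s η : F}
    (hs : s ≠ 0) (hη : η ≠ 0) (h1 : η ≠ s) (h1' : η ≠ dd g * s) : StepL [g] s (dd g * s) (η * s) := by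
  refine (stepL_block hg hg0 (monic_X_sub_C η) (by rw [natDegree_X_sub_C, h2]) (by rw [natDegree_X_sub_C])
    (by simpa using hη) hs ?_ ?_).of_eq rfl rfl (by rw [dd_X_sub_C])
  · simpa [sub_eq_zero] using Ne.symm h1
  · simpa [sub_eq_zero] using Ne.symm h1'

theorem ok_linear {g : F[X]} (h1 : g.natDegree = 1) : Ok g := fun s hs => ⟨s, hs, stepL_linear h1 s⟩

theorem ok_quad {g : F[X]} (hg : Blkish g) (h2 : g.natDegree = 2)
    (h : ∀ s : F, s ≠ 0 → ∃ η, η ≠ 0 ∧ η ≠ s ∧ η ≠ dd g * s) : Ok g := fun s hs => by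
  obtain ⟨η, hη, h1, h1'⟩ := h s hs
  exact ⟨η * s, mul_ne_zero hη hs, stepL_quad hg.1 hg.2.1 h2 hs hη h1 h1'⟩

theorem ok_big {g : F[X]} (hg : Blkish g) (h3 : 3 ≤ g.natDegree)
    (hw : dd g = 1 ∨ ∃ w : F, w ≠ 0 ∧ w ≠ 1) : Ok g := fun _ hs => ⟨1, one_ne_zero, knob hg h3 hs one_ne_zero hw⟩

theorem ok_list : ∀ L : List F[X], L ≠ [] → (∀ g ∈ L, Ok g ∧ g.coeff 0 ≠ 0) → ∀ s, s ≠ 0 →
    ∃ d, d ≠ 0 ∧ StepL L s ((L.map dd).prod * s) d
  | [], h, _ => absurd rfl h
  | [g], _, h => fun s hs => by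
    obtain ⟨d, hd, hst⟩ := (h g List.mem_cons_self).1 s hs
    exact ⟨d, hd, hst.of_eq rfl (by simp) rfl⟩
  | g :: f :: L, _, h => fun s hs => by
    obtain ⟨d, hd, hst⟩ := (h g List.mem_cons_self).1 s hs
    obtain ⟨d', hd', hst'⟩ := ok_list (f :: L) (List.cons_ne_nil _ _) (fun x hx => h x (List.mem_cons_of_mem _ hx))
      (dd g * s) (mul_ne_zero (dd_ne_zero (h g List.mem_cons_self).2) hs)
    exact ⟨d * d', mul_ne_zero hd hd', (hst.append hst').of_eq rfl (by simp [List.map_cons]; ring) rfl⟩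

/-- a list with a large block and usable others -/
theorem good_of_big {g : F[X]} {L : List F[X]} (hg : Blkish g) (h3 : 3 ≤ g.natDegree)
    (hw : dd g = 1 ∨ ∃ w : F, w ≠ 0 ∧ w ≠ 1) (hL : ∀ f ∈ L, Ok f ∧ f.coeff 0 ≠ 0)
    (hprod : ((g :: L).map dd).prod = 1) : Good (g :: L) := by
  rw [List.map_cons, List.prod_cons] at hprod
  by_cases hL0 : L = []
  · subst hL0
    refine StepL.good (s := 1) ((knob hg h3 one_ne_zero one_ne_zero hw).of_eq rfl ?_ rfl)
    simpa using hprod
  · obtain ⟨d, hd, hst⟩ := ok_list L hL0 hL (dd g) (dd_ne_zero hg.2.1)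
    have hk : StepL [g] 1 (dd g) d⁻¹ := (knob hg h3 one_ne_zero (inv_ne_zero hd) hw).of_eq rfl (mul_one _) rfl
    exact StepL.good (s := 1) ((hk.append hst).of_eq rfl (by rw [mul_comm]; exact hprod) (inv_mul_cancel₀ hd))

/-- block diagonal matrices of linear blocks are diagonal -/
theorem blk_linear : ∀ l : List F, Sim (blk (l.map fun a => X - C a)) (diagonal l.get)
  | [] => by
    have : IsEmpty (Fin (sz (([] : List F).map fun a => X - C a))) := Fin.isEmpty'
    exact ⟨0, 0, by ext i; exact isEmptyElim i, by ext i; exact i.elim0, by ext i; exact isEmptyElim i⟩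
  | a :: l => by
    refine (blk_cons _ _).trans (((Sim.refl _).blocks (blk_linear l)).trans ?_)
    let e : Fin (l.length + 1) ≃ Fin (X - C a).natDegree ⊕ Fin l.length :=
      ((finCongr (by omega : l.length + 1 = 1 + l.length)).trans finSumFinEquiv.symm).trans
        (Equiv.sumCongr (finCongr (natDegree_X_sub_C a).symm) (Equiv.refl _))
    refine (Sim.reindex _ e).trans (Sim.of_eq ?_)
    have hd := natDegree_X_sub_C a
    ext i j
    obtain ⟨i', rfl⟩ := e.symm.surjective i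
    obtain ⟨j', rfl⟩ := e.symm.surjective j
    rw [Matrix.submatrix_apply, Equiv.apply_symm_apply, Equiv.apply_symm_apply]
    have key : ∀ x, (a :: l).get (e.symm x) = Sum.elim (fun _ => a) l.get x := fun x => by
      rcases x with x | x
      · have hx := x.2
        have : e.symm (.inl x) = ⟨0, by simp⟩ := Fin.ext (by simp [e])
        rw [this]; rfl
      · have : e.symm (.inr x) = x.succ := Fin.ext (by simp [e])
        rw [this]; rfl
    rcases i' with i' | i' <;> rcases j' with j' | j'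
    · have h0 : i' = j' := Fin.ext (by have := i'.2; have := j'.2; omega)
      subst h0
      have hi := i'.2
      rw [Matrix.diagonal_apply_eq, key]
      simp [comp, cof, show (i' : ℕ) = 0 by omega]
    · rw [Matrix.diagonal_apply_ne _ (by simp), fromBlocks_apply₁₂, Matrix.zero_apply]
    · rw [Matrix.diagonal_apply_ne _ (by simp), fromBlocks_apply₂₁, Matrix.zero_apply]
    · by_cases h : i' = j'
      · subst h; rw [Matrix.diagonal_apply_eq, key, fromBlocks_apply₂₂, Matrix.diagonal_apply_eq]; rfl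
      · rw [Matrix.diagonal_apply_ne _ (by simpa using h), fromBlocks_apply₂₂, Matrix.diagonal_apply_ne _ h]

theorem choose_two_add (x : ℕ) : ∀ y : ℕ, (x + y + 1).choose 2 = (x + 1).choose 2 + (y + 1).choose 2 + x * y
  | 0 => by simp
  | y + 1 => by
    rw [show x + (y + 1) + 1 = (x + y + 1) + 1 by omega, Nat.choose_succ_succ (x + y + 1) 1,
      Nat.choose_succ_succ (y + 1) 1, Nat.choose_one_right, Nat.choose_one_right, choose_two_add x y]
    ring

/-- diagonal lists with at most two values -/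
theorem good_diag [Finite F] {α β : F} (hα : α ≠ 0) (hβ : β ≠ 0) {a b : ℕ} (hab : a ≠ 0)
    (hprod : α ^ a * β ^ b = 1) :
    Good ((List.replicate a α ++ List.replicate b β).map fun x => X - C x) := by
  obtain ⟨n, hn⟩ : ∃ n, n = a + b := ⟨_, rfl⟩
  obtain ⟨h, hha, hdvd⟩ : ∃ h, h ≤ a ∧ Nat.gcd a b ∣ (b + 1).choose 2 + h := by
    have hg : 0 < Nat.gcd a b := Nat.gcd_pos_of_pos_left _ (Nat.pos_of_ne_zero hab)
    refine ⟨(Nat.gcd a b - (b + 1).choose 2 % Nat.gcd a b) % Nat.gcd a b,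
      (Nat.mod_lt _ hg).le.trans (Nat.gcd_le_left _ (Nat.pos_of_ne_zero hab)), Nat.dvd_of_mod_eq_zero ?_⟩
    have h1 := Nat.mod_lt ((b + 1).choose 2) hg
    rw [Nat.add_mod, Nat.mod_mod]
    rcases Nat.eq_zero_or_pos ((b + 1).choose 2 % Nat.gcd a b) with h0 | h0
    · rw [h0, Nat.sub_zero, Nat.mod_self, Nat.zero_add, Nat.zero_mod]
    · rw [Nat.mod_eq_of_lt (show Nat.gcd a b - (b + 1).choose 2 % Nat.gcd a b < Nat.gcd a b by omega),
        show (b + 1).choose 2 % Nat.gcd a b + (Nat.gcd a b - (b + 1).choose 2 % Nat.gcd a b) = Nat.gcd a b by omega,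
        Nat.mod_self]
  let H : Subgroup Fˣ := (powMonoidHom (eexp n)).range
  set uα := Units.mk0 α hα
  set uβ := Units.mk0 β hβ
  have hu : uα ^ a * uβ ^ b = 1 := by ext; simpa [uα, uβ] using hprod
  have hpow : ∀ x : Fˣ, x ^ n ∈ H := fun x => by
    by_cases hev : Even n
    · exact ⟨x ^ 2, by
        obtain ⟨l, hl⟩ := hev
        rw [powMonoidHom_apply, eexp, if_pos ⟨l, hl⟩, ← pow_mul]; congr 1; omega⟩
    · exact ⟨x, by rw [powMonoidHom_apply, eexp, if_neg hev]⟩
  have hA : uα ^ (n + 1).choose 2 ∈ H := by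
    have hn2 : (n + 1).choose 2 = (n + 1) * n / 2 := by rw [Nat.choose_two_right]; rfl
    by_cases hev : Even n
    · exact ⟨uα ^ (n + 1), by
        obtain ⟨l, hl⟩ := hev
        rw [powMonoidHom_apply, eexp, if_pos ⟨l, hl⟩, ← pow_mul, hn2, Nat.mul_div_assoc _ (by omega)]⟩
    · exact ⟨uα ^ ((n + 1) / 2), by
        have hodd := Nat.not_even_iff.1 hev
        rw [powMonoidHom_apply, eexp, if_neg hev, ← pow_mul, hn2, mul_comm (n + 1) n,
          Nat.mul_div_assoc _ (by omega), mul_comm n]⟩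
  have hra : (uβ / uα) ^ a ∈ H := by
    have : (uβ / uα) ^ a = uβ ^ n := by
      rw [div_pow, eq_inv_of_mul_eq_one_left hu, div_inv_eq_mul, ← pow_add, hn]
    rw [this]; exact hpow _
  have hrb : (uβ / uα) ^ b ∈ H := by
    have : (uβ / uα) ^ b = uα⁻¹ ^ n := by
      rw [div_pow, eq_inv_of_mul_eq_one_right hu, inv_pow, hn, pow_add, mul_inv, div_eq_mul_inv]
    rw [this]; exact hpow _
  have hrT : (uβ / uα) ^ ((b + 1).choose 2 + h) ∈ H := by
    obtain ⟨q, hq⟩ := hdvd
    rw [hq, pow_mul]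
    refine pow_mem ?_ q
    rw [← zpow_natCast, Nat.gcd_eq_gcd_ab, _root_.zpow_add, _root_.zpow_mul, _root_.zpow_mul, zpow_natCast, zpow_natCast]
    exact mul_mem (zpow_mem hra _) (zpow_mem hrb _)
  -- the ordering
  rcases Nat.eq_zero_or_pos b with hb | hb
  · subst hb
    obtain ⟨k, hk⟩ : ∃ k, a = k + 1 := ⟨a - 1, by omega⟩
    obtain ⟨c, hc⟩ := hA
    have hl : (List.replicate a α ++ List.replicate 0 β).length = k + 1 := by simp [hk]
    refine IsComm.of_sim ((blk_linear _).trans (Sim.reindex _ (finCongr hl.symm)))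
      (IsComm.of_sim (Sim.of_eq (submatrix_diagonal_equiv _ _)) (isComm_diagonal _ hl (by simpa using hprod)
        ⟨(c : F), ?_⟩))
    rw [wprod_replicate_append]
    have := congrArg Units.val hc
    simpa [uα, hn, hk, wprod] using this.symm
  obtain ⟨b', rfl⟩ : ∃ b', b = b' + 1 := ⟨b - 1, by omega⟩
  obtain ⟨a', rfl⟩ : ∃ a', a = a' + h := ⟨a - h, by omega⟩
  let l := List.replicate a' α ++ (β :: (List.replicate h α ++ List.replicate b' β))
  have hperm : (List.replicate (a' + h) α ++ List.replicate (b' + 1) β).Perm l := by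
    rw [List.replicate_add, List.append_assoc, List.replicate_succ]
    exact (List.perm_append_left_iff _).2 List.perm_middle
  refine Good.perm (hperm.map _) ?_
  obtain ⟨k, hk⟩ : ∃ k, a' + h + (b' + 1) = k + 1 := ⟨a' + h + b', by omega⟩
  have hlen : l.length = k + 1 := by simp [l, ← hk]; omega
  obtain ⟨c, hc⟩ := mul_mem hA hrT
  refine IsComm.of_sim ((blk_linear _).trans (Sim.reindex _ (finCongr hlen.symm)))
    (IsComm.of_sim (Sim.of_eq (submatrix_diagonal_equiv _ _)) (isComm_diagonal _ hlen ?_ ⟨(c : F), ?_⟩))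
  · rw [← hperm.prod_eq]; simpa using hprod
  · have hcv := congrArg Units.val hc
    simp only [uα, uβ, powMonoidHom_apply, Units.val_pow_eq_pow_val, Units.val_mul, Units.val_mk0,
      Units.val_div_eq_div_val] at hcv
    rw [← hk, ← hn, hcv]
    simp only [l]
    rw [wprod_replicate_append, wprod, wprod_replicate_append]
    simp only [List.length_cons, List.length_append, List.length_replicate]
    rw [show List.replicate b' β = List.replicate b' β ++ [] from (List.append_nil _).symm, wprod_replicate_append]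
    simp only [wprod, List.length_nil, mul_one, Nat.mul_zero, Nat.zero_add]
    have e1 : (n + 1).choose 2 = (a' + 1).choose 2 + (h + 1).choose 2 + a' * h +
        ((b' + 1 + 1).choose 2 + (a' + h) * (b' + 1)) := by
      rw [hn, choose_two_add (a' + h) (b' + 1), choose_two_add a' h]; ring
    have e2 : (b' + 1 + 1).choose 2 = (b' + 1).choose 2 + (b' + 1) := by
      rw [Nat.choose_succ_succ (b' + 1) 1, Nat.choose_one_right, add_comm]
    rw [e1, e2, div_pow]
    field_simp
    simp only [mul_add, add_mul, mul_one, Nat.add_assoc]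
    ring

end CfsgLib.Ore
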