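import Cfsg.Agent.Lib.Ore.Sim

/-!
# Companion matrices
-/

set_option autoImplicit false

open Matrix Polynomial

namespace CfsgLib.Ore

variable {F : Type*} [Field F]
variable {α β : Type*} [Fintype α] [DecidableEq α] [Fintype β] [DecidableEq β]

/-- a rectangular matrix that is onto, between index types of the same size, has an inverse -/
theorem exists_inv_of_surj (hcard : Fintype.card β = Fintype.card α) (P : Matrix α β F)
    (h : ∀ w, ∃ x, P *ᵥ x = w) : ∃ Q : Matrix β α F, P * Q = 1 ∧ Q * P = 1 := by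
  obtain ⟨e⟩ : Nonempty (β ≃ α) := ⟨Fintype.equivOfCardEq hcard⟩
  choose x hx using h
  let Q : Matrix β α F := of fun b a => x (Pi.single a 1) b
  have hPQ : P * Q = 1 := by
    ext i j
    have := congrFun (hx (Pi.single j 1)) i
    rw [Matrix.one_apply, Matrix.mul_apply]
    simpa [Matrix.mulVec, dotProduct, Q, Pi.single_apply] using this
  refine ⟨Q, hPQ, ?_⟩
  have h1 : P.submatrix id e.symm * Q.submatrix e.symm id = 1 := by
    rw [← Matrix.submatrix_mul P Q id e.symm id e.symm.bijective, hPQ, Matrix.submatrix_id_id]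
  have h2 := mul_eq_one_comm.1 h1
  have h3 : (Q * P).submatrix e.symm e.symm = 1 := by
    rw [Matrix.submatrix_mul Q P e.symm id e.symm Function.bijective_id, h2]
  calc Q * P = ((Q * P).submatrix e.symm e.symm).submatrix e e := by
        simp [Matrix.submatrix_submatrix]
    _ = 1 := by rw [h3, Matrix.submatrix_one_equiv]

/-- a vector generating the space under `A` -/
def Cyc (A : Matrix α α F) (v : α → F) : Prop :=
  ∀ w : α → F, ∃ q : F[X], aeval A q *ᵥ v = w

/-- companion matrix of `X ^ m + ∑ c i * X ^ i` -/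
def comp {m : ℕ} (c : Fin m → F) : Matrix (Fin m) (Fin m) F :=
  of fun i j => if (j : ℕ) + 1 = m then -c i else if (i : ℕ) = j + 1 then 1 else 0

/-- the polynomial with the given lower coefficients -/
noncomputable def cpoly {m : ℕ} (c : Fin m → F) : F[X] := X ^ m + ∑ i, C (c i) * X ^ (i : ℕ)

/-- unit vector, zero out of range -/
def ev (F : Type*) [Field F] (m k : ℕ) : Fin m → F := fun i => if (i : ℕ) = k then 1 else 0

theorem ev_eq_single {m : ℕ} (j : Fin m) : ev F m (j : ℕ) = Pi.single j 1 := by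
  ext i; simp [ev, Pi.single_apply, Fin.ext_iff]

theorem comp_mulVec_ev {m k : ℕ} (c : Fin m → F) (h : k + 1 < m) :
    comp c *ᵥ ev F m k = ev F m (k + 1) := by
  have : ev F m k = Pi.single (⟨k, by omega⟩ : Fin m) 1 :=
    ev_eq_single ⟨k, by omega⟩
  rw [this, Matrix.mulVec_single_one]
  ext i
  simp [comp, ev, h.ne]

theorem comp_mulVec_last {m k : ℕ} (c : Fin m → F) (h : k + 1 = m) :
    comp c *ᵥ ev F m k = -c := by
  have : ev F m k = Pi.single (⟨k, by omega⟩ : Fin m) 1 :=
    ev_eq_single ⟨k, by omega⟩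
  rw [this, Matrix.mulVec_single_one]
  ext i
  simp [comp, h]

theorem comp_pow_ev {m k : ℕ} (c : Fin m → F) (h : k < m) :
    comp c ^ k *ᵥ ev F m 0 = ev F m k := by
  induction k with
  | zero => simp
  | succ k ih => rw [pow_succ', ← Matrix.mulVec_mulVec, ih (by omega), comp_mulVec_ev c h]

theorem comp_pow_self_ev {m : ℕ} (c : Fin (m + 1) → F) :
    comp c ^ (m + 1) *ᵥ ev F (m + 1) 0 = -c := by
  rw [pow_succ', ← Matrix.mulVec_mulVec, comp_pow_ev c (Nat.lt_succ_self m), comp_mulVec_last c rfl]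

theorem aeval_sum_mulVec {m : ℕ} (A : Matrix α α F) (c : Fin m → F) (v : α → F) :
    aeval A (∑ i, C (c i) * X ^ (i : ℕ)) *ᵥ v = ∑ i : Fin m, c i • (A ^ (i : ℕ) *ᵥ v) := by
  rw [map_sum, Matrix.sum_mulVec]
  refine Finset.sum_congr rfl fun i _ => ?_
  rw [map_mul, map_pow, aeval_C, aeval_X, ← Algebra.smul_def, Matrix.smul_mulVec]

theorem comp_cyc {m : ℕ} (c : Fin m → F) : Cyc (comp c) (ev F m 0) := fun w => by
  refine ⟨∑ i, C (w i) * X ^ (i : ℕ), ?_⟩
  rw [aeval_sum_mulVec]
  simp only [comp_pow_ev c (Fin.is_lt _), ev_eq_single]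
  ext i
  simp [Finset.sum_apply, Pi.single_apply]

theorem aeval_comp_ev {m : ℕ} (c : Fin m → F) : aeval (comp c) (cpoly c) *ᵥ ev F m 0 = 0 := by
  cases m with
  | zero => ext i; exact i.elim0
  | succ m =>
    rw [cpoly, map_add, Matrix.add_mulVec, aeval_sum_mulVec, map_pow, aeval_X, comp_pow_self_ev]
    simp only [comp_pow_ev c (Fin.is_lt _), ev_eq_single]
    ext i
    simp [Finset.sum_apply, Pi.single_apply]

theorem cpoly_degree_lt {m : ℕ} (c : Fin m → F) :
    (∑ i, C (c i) * X ^ (i : ℕ)).degree < (m : WithBot ℕ) :=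
  degree_sum_fin_lt c

theorem cpoly_monic {m : ℕ} (c : Fin m → F) : (cpoly c).Monic :=
  monic_X_pow_add (cpoly_degree_lt c)

theorem cpoly_natDegree {m : ℕ} (c : Fin m → F) : (cpoly c).natDegree = m := by
  have : (cpoly c).degree = (m : WithBot ℕ) := by
    rw [cpoly, degree_add_eq_left_of_degree_lt (by rw [degree_X_pow]; exact cpoly_degree_lt c),
      degree_X_pow]
  exact natDegree_eq_of_degree_eq_some this

theorem cpoly_eval {m : ℕ} (c : Fin m → F) (x : F) :
    (cpoly c).eval x = x ^ m + ∑ i, c i * x ^ (i : ℕ) := by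
  simp [cpoly, eval_finsetSum]

/-- the Krylov columns intertwine with the companion matrix -/
theorem krylov_comp {m : ℕ} (A : Matrix α α F) (v : α → F) (c : Fin m → F)
    (hc : aeval A (cpoly c) *ᵥ v = 0) :
    A * (of fun a (j : Fin m) => (A ^ (j : ℕ) *ᵥ v) a) = (of fun a (j : Fin m) => (A ^ (j : ℕ) *ᵥ v) a) * comp c := by
  let P : Matrix α (Fin m) F := of fun a j => (A ^ (j : ℕ) *ᵥ v) a
  have hP : ∀ x, P *ᵥ x = aeval A (∑ i, C (x i) * X ^ (i : ℕ)) *ᵥ v := fun x => by
    rw [aeval_sum_mulVec]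
    ext a
    simp [Matrix.mulVec, dotProduct, P, mul_comm]
  show A * P = P * comp c
  refine Matrix.ext_iff_mulVec.2 fun x => ?_
  suffices h : ∀ j : Fin m, A *ᵥ (P *ᵥ Pi.single j 1) = P *ᵥ (comp c *ᵥ Pi.single j 1) by
    have hx : x = ∑ j : Fin m, x j • (Pi.single j 1 : Fin m → F) := pi_eq_sum_univ' x
    rw [hx]
    simp only [Matrix.mulVec_sum, Matrix.mulVec_smul, ← Matrix.mulVec_mulVec, h]
  intro j
  have hcol : P *ᵥ Pi.single j 1 = A ^ (j : ℕ) *ᵥ v := by
    rw [Matrix.mulVec_single_one]; rfl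
  rw [hcol, Matrix.mulVec_mulVec, ← pow_succ', ← ev_eq_single]
  by_cases hj : (j : ℕ) + 1 < m
  · rw [comp_mulVec_ev c hj]
    have : ev F m ((j : ℕ) + 1) = Pi.single (⟨j + 1, hj⟩ : Fin m) 1 :=
      ev_eq_single ⟨j + 1, hj⟩
    rw [this, Matrix.mulVec_single_one]; rfl
  · have hjm : (j : ℕ) + 1 = m := by have := j.2; omega
    rw [comp_mulVec_last c hjm, Matrix.mulVec_neg, hP, ← add_eq_zero_iff_eq_neg, ← hc, cpoly, map_add,
      Matrix.add_mulVec, map_pow, aeval_X, hjm]


/-- a cyclic matrix is similar to the companion matrix of a polynomial killing its vector -/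
theorem sim_comp {m : ℕ} (hm : Fintype.card α = m) (A : Matrix α α F) (v : α → F) (hv : Cyc A v)
    (c : Fin m → F) (hc : aeval A (cpoly c) *ᵥ v = 0) : Sim A (comp c) := by
  let P : Matrix α (Fin m) F := of fun a j => (A ^ (j : ℕ) *ᵥ v) a
  have hP : ∀ x, P *ᵥ x = aeval A (∑ i, C (x i) * X ^ (i : ℕ)) *ᵥ v := fun x => by
    rw [aeval_sum_mulVec]
    ext a
    simp [Matrix.mulVec, dotProduct, P, mul_comm]
  obtain ⟨Q, hPQ, hQP⟩ := exists_inv_of_surj (by rw [Fintype.card_fin, hm]) P fun w => by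
    obtain ⟨q, hq⟩ := hv w
    refine ⟨fun i => (q %ₘ cpoly c).coeff i, ?_⟩
    have hdeg : (q %ₘ cpoly c).degree < (m : WithBot ℕ) := by
      have h1 := degree_modByMonic_lt q (cpoly_monic c)
      rwa [degree_eq_natDegree (cpoly_monic c).ne_zero, cpoly_natDegree] at h1
    have hs : q %ₘ cpoly c = ∑ i : Fin m, C ((q %ₘ cpoly c).coeff i) * X ^ (i : ℕ) := by
      ext i
      rw [finsetSum_coeff]
      simp only [coeff_C_mul_X_pow]
      by_cases hi : i < m
      · rw [Finset.sum_eq_single (⟨i, hi⟩ : Fin m)]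
        · simp
        · intro b _ hb
          exact if_neg fun h => hb (Fin.ext h.symm)
        · simp
      · rw [Finset.sum_eq_zero fun j _ => if_neg (by have := j.2; omega)]
        exact coeff_eq_zero_of_degree_lt (hdeg.trans_le (by exact_mod_cast not_lt.1 hi))
    rw [hP, ← hs, ← hq]
    conv_rhs => rw [← modByMonic_add_div q (cpoly c)]
    rw [map_add, Matrix.add_mulVec, mul_comm (cpoly c), map_mul, ← Matrix.mulVec_mulVec, hc,
      Matrix.mulVec_zero, add_zero]
  exact ⟨P, Q, hPQ, hQP, krylov_comp A v c hc⟩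

/-- companion matrices with the same polynomial -/
theorem comp_congr {m m' : ℕ} (c : Fin m → F) (c' : Fin m' → F) (h : cpoly c = cpoly c') :
    Sim (comp c) (comp c') := by
  obtain rfl : m = m' := by rw [← cpoly_natDegree c, h, cpoly_natDegree]
  exact sim_comp (Fintype.card_fin m) _ _ (comp_cyc c) _ (by rw [← h]; exact aeval_comp_ev c)

theorem aeval_comp_mulVec {m : ℕ} (c : Fin m → F) (w : Fin m → F) :
    aeval (comp c) (cpoly c) *ᵥ w = 0 := by
  obtain ⟨q, rfl⟩ := comp_cyc c w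
  rw [Matrix.mulVec_mulVec, ← map_mul, mul_comm, map_mul, ← Matrix.mulVec_mulVec, aeval_comp_ev,
    Matrix.mulVec_zero]

theorem aeval_comp {m : ℕ} (c : Fin m → F) : aeval (comp c) (cpoly c) = 0 :=
  Matrix.ext_iff_mulVec.2 fun w => by rw [aeval_comp_mulVec, Matrix.zero_mulVec]

/-- a polynomial prime to the companion polynomial gives an invertible matrix -/
theorem isUnit_aeval_comp {m : ℕ} (c : Fin m → F) {p : F[X]} (h : IsCoprime p (cpoly c)) :
    IsUnit (aeval (comp c) p) := by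
  obtain ⟨a, b, hab⟩ := h
  have h1 := congrArg (aeval (comp c)) hab
  rw [map_add, map_mul, map_mul, aeval_comp, mul_zero, add_zero, map_one] at h1
  exact isUnit_iff_exists.2 ⟨_, mul_eq_one_comm.1 h1, h1⟩

theorem isUnit_comp_sub {m : ℕ} (c : Fin m → F) {s : F} (h : (cpoly c).eval s ≠ 0) :
    IsUnit (comp c - s • (1 : Matrix (Fin m) (Fin m) F)) := by
  have hco : IsCoprime (X - C s) (cpoly c) :=
    (irreducible_X_sub_C s).coprime_iff_not_dvd.2 fun hd => h (dvd_iff_isRoot.1 hd)
  have := isUnit_aeval_comp c hco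
  rwa [map_sub, aeval_X, aeval_C, Algebra.algebraMap_eq_smul_one] at this

theorem det_comp {m : ℕ} (c : Fin (m + 1) → F) : (comp c).det = (-1) ^ (m + 1) * c 0 := by
  rw [Matrix.det_succ_row_zero, Finset.sum_eq_single (Fin.last m)]
  · have h1 : (comp c).submatrix Fin.succ (Fin.succAbove (Fin.last m)) = 1 := by
      ext i j
      simp [comp, Fin.succAbove_last, Matrix.one_apply, Fin.ext_iff, j.isLt.ne]
    rw [h1, det_one, mul_one]
    simp [comp, pow_succ]
  · intro j _ hj
    have : (j : ℕ) + 1 ≠ m + 1 := fun h => hj (Fin.ext (by simp; omega))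
    have hjm : (j : ℕ) ≠ m := by omega
    simp [comp, hjm]
  · simp

end CfsgLib.Ore
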