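import Cfsg.Agent.Lib.Ore.Lists

/-!
# Diagonal matrices are commutators

`diagonal a = [X * z, C]` with `C` a signed cyclic permutation, `X` the partial products and `z` in
the centraliser of `C` correcting the determinant.
-/

set_option autoImplicit false

open Matrix Polynomial

namespace CfsgLib.Ore

universe u

variable {F : Type u} [Field F]

theorem exists_two_squares [Finite F] (c : F) : ∃ a b : F, a ^ 2 + b ^ 2 = c := by
  have := Fintype.ofFinite F
  by_cases h2 : ringChar F = 2
  · obtain ⟨a, ha⟩ := FiniteField.isSquare_of_char_two h2 c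
    exact ⟨a, 0, by rw [ha]; ring⟩
  · obtain ⟨a, b, hab⟩ := FiniteField.exists_root_sum_quadratic (R := F) (f := X ^ 2) (g := X ^ 2 - C c)
      (degree_X_pow 2) (degree_X_pow_sub_C (by norm_num) c) (FiniteField.odd_card_of_char_ne_two h2)
    refine ⟨a, b, ?_⟩
    simp only [eval_pow, eval_X, eval_sub, eval_C] at hab
    linear_combination hab

/-- product of the partial products -/
def wprod : List F → F
  | [] => 1
  | a :: L => a ^ (L.length + 1) * wprod L

theorem prod_take_eq_wprod : ∀ L : List F, ∏ i : Fin L.length, (L.take ((i : ℕ) + 1)).prod = wprod L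
  | [] => by simp [wprod]
  | a :: L => by
    show ∏ i : Fin (L.length + 1), ((a :: L).take ((i : ℕ) + 1)).prod = _
    rw [Fin.prod_univ_succ]
    simp only [Fin.val_zero, Fin.val_succ, List.take_succ_cons, List.take_zero, List.prod_cons,
      List.prod_nil, mul_one, Finset.prod_mul_distrib, prod_take_eq_wprod L, Finset.prod_const,
      Finset.card_univ, Fintype.card_fin]
    rw [wprod]; ring

theorem wprod_replicate_append (c : F) (L : List F) :
    ∀ k : ℕ, wprod (List.replicate k c ++ L) = c ^ (k * L.length + (k + 1).choose 2) * wprod L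
  | 0 => by simp
  | k + 1 => by
    rw [List.replicate_succ, List.cons_append, wprod, wprod_replicate_append c L k, List.length_append,
      List.length_replicate, ← mul_assoc, ← pow_add]
    congr 2
    rw [Nat.choose_succ_succ (k + 1) 1, Nat.choose_one_right, Nat.succ_mul]
    ring

/-- the exponent of the determinants in the centraliser of the cycle -/
def eexp (n : ℕ) : ℕ := if Even n then n / 2 else n

/-- the signs making the cycle have determinant one -/
def cyc0 (F : Type u) [Field F] (n : ℕ) : Fin n → F := fun i => if (i : ℕ) = 0 then (-1) ^ n else 0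

theorem det_cyc0 (m : ℕ) : (comp (cyc0 F (m + 1))).det = 1 := by
  rw [det_comp]
  simp [cyc0, ← pow_add, ← two_mul, pow_mul]

theorem exists_centraliser [Finite F] (m : ℕ) (c : F) (hc : c ≠ 0) :
    ∃ z, comp (cyc0 F (m + 1)) * z = z * comp (cyc0 F (m + 1)) ∧ z.det = c ^ eexp (m + 1) := by
  set C := comp (cyc0 F (m + 1)) with hC
  unfold eexp
  split_ifs with hev
  · obtain ⟨l, hl⟩ := hev
    obtain ⟨u, v, huv⟩ : ∃ u v : F, u ^ 2 + v ^ 2 = c ∧ u ≠ 0 := by
      obtain ⟨u, v, huv⟩ := exists_two_squares c
      by_cases hu : u = 0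
      · refine ⟨v, u, by rw [← huv]; ring, fun hv => hc ?_⟩
        rw [← huv, hu, hv]; ring
      · exact ⟨u, v, huv, hu⟩
    refine ⟨u • 1 + v • C ^ l, ?_, ?_⟩
    · rw [Matrix.mul_add, Matrix.add_mul, Matrix.mul_smul, Matrix.smul_mul, Matrix.mul_one, Matrix.one_mul,
        Matrix.mul_smul, Matrix.smul_mul, ← pow_succ', ← pow_succ]
    · -- `C ^ l` in two blocks
      have hlow : ∀ j, j + l ≤ m → C ^ l *ᵥ ev F (m + 1) j = ev F (m + 1) (j + l) := fun j hj => by
        rw [← comp_pow_ev (cyc0 F (m + 1)) (show j < m + 1 by omega), Matrix.mulVec_mulVec, ← pow_add,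
          comp_pow_ev _ (by omega), add_comm l j]
      have hn : C ^ (m + 1) *ᵥ ev F (m + 1) 0 = -ev F (m + 1) 0 := by
        rw [hC, comp_pow_self_ev]
        ext i
        simp only [cyc0, ev, Pi.neg_apply]
        split_ifs <;> simp [hl, ← two_mul, pow_mul]
      have hhigh : ∀ j, j < l → C ^ l *ᵥ ev F (m + 1) (l + j) = -ev F (m + 1) j := fun j hj => by
        rw [← comp_pow_ev (cyc0 F (m + 1)) (show l + j < m + 1 by omega), Matrix.mulVec_mulVec, ← pow_add,
          show l + (l + j) = j + (m + 1) by omega, pow_add, ← Matrix.mulVec_mulVec, hn, Matrix.mulVec_neg,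
          comp_pow_ev _ (by omega)]
      let e : Fin l ⊕ Fin l ≃ Fin (m + 1) := finSumFinEquiv.trans (finCongr hl.symm)
      have hblock : (u • (1 : Matrix (Fin (m + 1)) (Fin (m + 1)) F) + v • C ^ l).submatrix e e =
          fromBlocks (u • 1) (-(v • 1)) (v • 1) (u • (1 : Matrix (Fin l) (Fin l) F)) := by
        ext i j
        have hcol : ∀ x y, (C ^ l) x y = (C ^ l *ᵥ Pi.single y 1) x := fun x y => by
          rw [Matrix.mulVec_single_one]; rfl
        simp only [Matrix.submatrix_apply, Matrix.add_apply, Matrix.smul_apply, hcol, ← ev_eq_single]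
        rcases j with j | j
        · have hj : ((e (.inl j) : Fin (m + 1)) : ℕ) = j := by simp [e]
          rw [hj, hlow _ (by have := j.2; omega)]
          rcases i with i | i
          · simp [ev, e, Matrix.one_apply, Fin.ext_iff]; intro h; have := i.2; omega
          · simp [ev, e, Matrix.one_apply, Fin.ext_iff, add_comm (j : ℕ) l, eq_comm]
            rw [if_neg (show ¬((j : ℕ) = i + l) by have := j.2; omega), zero_add]
            simp [add_comm l (j : ℕ)]
        · have hj : ((e (.inr j) : Fin (m + 1)) : ℕ) = l + j := by simp [e, add_comm]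
          rw [hj, hhigh _ j.2]
          rcases i with i | i
          · simp [ev, e, Matrix.one_apply, Fin.ext_iff]
            intro h; have := i.2; omega
          · simp [ev, e, Matrix.one_apply, Fin.ext_iff]
            intro h; have := j.2; omega
      rw [← (Sim.reindex _ e).symm.det_eq, hblock, ← Matrix.det_submatrix_equiv_self (Equiv.refl _)]
      have hU : Invertible (u • (1 : Matrix (Fin l) (Fin l) F)) :=
        ⟨u⁻¹ • 1, by simp [huv.2], by simp [huv.2]⟩
      rw [Equiv.coe_refl, Matrix.submatrix_id_id, Matrix.det_fromBlocks₁₁,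
        show ⅟(u • (1 : Matrix (Fin l) (Fin l) F)) = u⁻¹ • 1 from invOf_eq_right_inv (by simp [huv.2])]
      simp only [Matrix.mul_smul, Matrix.mul_neg, sub_neg_eq_add,
        smul_smul, ← add_smul, det_smul, det_one, Fintype.card_fin, mul_one, ← mul_pow]
      rw [show (m + 1) / 2 = l by omega, ← huv.1]
      congr 1
      field_simp [huv.2]
  · exact ⟨c • 1, by simp, by simp⟩

/-- diagonal matrices with a good product of partial products -/
theorem isComm_diagonal [Finite F] {m : ℕ} (L : List F) (hlen : L.length = m + 1) (hprod : L.prod = 1)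
    (hw : ∃ c, wprod L = c ^ eexp (m + 1)) :
    IsComm (diagonal fun i : Fin (m + 1) => L.get (Fin.cast hlen.symm i)) := by
  obtain ⟨c, hc⟩ := hw
  have hne : ∀ a ∈ L, a ≠ 0 := fun a ha h0 => by
    rw [h0] at ha
    rw [List.prod_eq_zero ha] at hprod
    exact zero_ne_one hprod
  let x : Fin (m + 1) → F := fun i => (L.take ((i : ℕ) + 1)).prod
  have hx : ∏ i, x i = wprod L := by
    rw [← prod_take_eq_wprod L]
    exact (Fintype.prod_equiv (finCongr hlen) _ _ fun i => rfl).symm
  have hx0 : wprod L ≠ 0 := by
    rw [← hx]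
    exact Finset.prod_ne_zero_iff.2 fun i _ => List.prod_ne_zero fun h0 => hne 0 (List.mem_of_mem_take h0) rfl
  have hc0 : c ≠ 0 := by
    intro h0
    rw [hc, h0, zero_pow] at hx0
    · exact hx0 rfl
    · unfold eexp
      split_ifs with hev
      · obtain ⟨l, hl⟩ := hev; omega
      · omega
  obtain ⟨z, hz, hzd⟩ := exists_centraliser (F := F) m c⁻¹ (inv_ne_zero hc0)
  set C := comp (cyc0 F (m + 1))
  refine ⟨diagonal x * z, C, ?_, det_cyc0 m, ?_⟩
  · rw [det_mul, det_diagonal, hx, hzd, hc, ← mul_pow, mul_inv_cancel₀ hc0, one_pow]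
  have key : (diagonal fun i : Fin (m + 1) => L.get (Fin.cast hlen.symm i)) * C * diagonal x = diagonal x * C := by
    ext i j
    rw [Matrix.mul_diagonal, Matrix.diagonal_mul, Matrix.diagonal_mul]
    have hget : ∀ k (hk : k < m + 1), (L.take (k + 1)).prod = (L.take k).prod * L.get ⟨k, by omega⟩ :=
      fun k hk => by rw [List.prod_take_succ L k (by omega)]; rfl
    by_cases hij : (i : ℕ) = j + 1
    · have hxi : x i = x j * L.get (Fin.cast hlen.symm i) := by
        show (L.take ((i : ℕ) + 1)).prod = (L.take ((j : ℕ) + 1)).prod * _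
        rw [hget i i.2]
        congr 2
        rw [hij]
      rw [hxi]; ring
    · by_cases hjl : (j : ℕ) + 1 = m + 1
      · by_cases hi0 : (i : ℕ) = 0
        · have hxj : x j = 1 := by
            show (L.take ((j : ℕ) + 1)).prod = 1
            rw [hjl, ← hlen, List.take_length, hprod]
          have hxi : x i = L.get (Fin.cast hlen.symm i) := by
            show (L.take ((i : ℕ) + 1)).prod = _
            rw [hget i i.2]
            conv_lhs => arg 1; rw [hi0]
            simp
          rw [hxj, hxi]; ring
        · simp [C, comp, cyc0, show (j : ℕ) = m by omega, show i ≠ 0 from fun h => hi0 (by rw [h]; rfl)]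
      · simp [C, comp, show (j : ℕ) ≠ m by omega, hij]
  rw [← Matrix.mul_assoc, key, Matrix.mul_assoc, hz, Matrix.mul_assoc]

end CfsgLib.Ore
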