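import Cfsg.Agent.Lib.Ore.Shapes

/-!
# Fields with at least four elements
-/

set_option autoImplicit false

open Matrix Polynomial

namespace CfsgLib.Ore

universe u

variable {F : Type u} [Field F]

theorem Good.one_block {g : F[X]} {L : List F[X]} (hg : Good [g]) (hL : Good L) : Good (g :: L) :=
  Good.append hg hL

theorem good_replicate {g : F[X]} (h : Good [g]) : ∀ k, Good (List.replicate k g)
  | 0 => Good.nil
  | k + 1 => Good.one_block h (good_replicate h k)

theorem exists_avoid [Fintype F] (h4 : 4 ≤ Fintype.card F) (a b : F) : ∃ w : F, w ≠ 0 ∧ w ≠ a ∧ w ≠ b := by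
  classical
  have h : ({0, a, b} : Finset F).card < (Finset.univ : Finset F).card :=
    lt_of_le_of_lt Finset.card_le_three (by rw [Finset.card_univ]; omega)
  obtain ⟨w, -, hw⟩ := Finset.exists_mem_notMem_of_card_lt_card h
  simp only [Finset.mem_insert, Finset.mem_singleton, not_or] at hw
  exact ⟨w, hw.1, hw.2.1, hw.2.2⟩

/-- one block of size two and determinant one -/
theorem good_quad {g : F[X]} (hg : g.Monic) (hg0 : g.coeff 0 ≠ 0) (h2 : g.natDegree = 2) (hd : dd g = 1)
    {w : F} (hw : w ≠ 0) (hw2 : w * w ≠ 1) : Good [g] := by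
  have hne : w⁻¹ ≠ w := fun h => hw2 (by nth_rw 1 [← h]; exact inv_mul_cancel₀ hw)
  exact StepL.good (s := w) ((stepL_quad hg hg0 h2 hw (inv_ne_zero hw) hne (by rw [hd, one_mul]; exact hne)).of_eq
    rfl (by rw [hd, one_mul]) (inv_mul_cancel₀ hw))

theorem step_chain {g : F[X]} (hg : g.Monic) (hg0 : g.coeff 0 ≠ 0) (h2 : g.natDegree = 2)
    (h1 : dd g ≠ 1) (hm : dd g * dd g ≠ 1) :
    ∀ k : ℕ, StepL (List.replicate (k + 1) g) 1 (dd g ^ (k + 1)) (dd g ^ ((k + 1) * k) / dd g ^ (k + 1)) := by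
  have hd := dd_ne_zero hg0
  have step : ∀ s : F, s ≠ 0 → StepL [g] s (dd g * s) (s * s / dd g) := fun s hs => by
    refine (stepL_quad hg hg0 h2 hs (div_ne_zero hs hd) ?_ ?_).of_eq rfl rfl (by ring)
    · intro h; apply h1
      rw [div_eq_iff hd] at h
      exact (mul_left_cancel₀ hs (by rw [mul_one]; exact h)).symm
    · intro h; apply hm
      rw [div_eq_iff hd] at h
      exact (mul_left_cancel₀ hs (by rw [mul_one]; nth_rw 1 [h]; ring)).symm
  intro k
  induction k with
  | zero => exact (step 1 one_ne_zero).of_eq rfl (by simp) (by simp)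
  | succ k ih =>
    rw [List.replicate_succ']
    refine (ih.append (step _ (pow_ne_zero _ hd))).of_eq rfl (by ring) ?_
    rw [div_mul_div_comm, div_eq_div_iff (mul_ne_zero (pow_ne_zero _ hd) hd) (pow_ne_zero _ hd)]
    ring

theorem good_quad_copies [Fintype F] (h4 : 4 ≤ Fintype.card F) {g : F[X]} (hg : g.Monic)
    (hg0 : g.coeff 0 ≠ 0) (h2 : g.natDegree = 2) (k : ℕ) (hk : dd g ^ (k + 1) = 1) :
    Good (List.replicate (k + 1) g) := by
  obtain ⟨w, hw, hw1, hwm⟩ := exists_avoid h4 1 (-1)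
  have hw2 : w * w ≠ 1 := fun h => by
    rcases mul_self_eq_one_iff.1 h with e | e
    · exact hw1 e
    · exact hwm e
  by_cases h1 : dd g = 1
  · exact good_replicate (good_quad hg hg0 h2 h1 hw hw2) _
  by_cases hm : dd g * dd g = 1
  · have hneg : dd g = -1 := (mul_self_eq_one_iff.1 hm).resolve_left h1
    have hpair : Good (g :: [g]) := by
      have s1 := stepL_quad (η := w) hg hg0 h2 one_ne_zero hw hw1 (by rw [hneg, mul_one]; exact hwm)
      have s2 := stepL_quad (η := -w⁻¹) hg hg0 h2 (show dd g * 1 ≠ 0 by simp [hneg])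
        (neg_ne_zero.2 (inv_ne_zero hw))
        (by rw [hneg, mul_one]; intro h; exact hw1 (inv_eq_one.1 (neg_inj.1 h)))
        (by rw [hneg]; intro h; exact hwm (by rw [← inv_inv w, ← neg_neg w⁻¹, h]; simp))
      refine StepL.good (s := 1) ((s1.append s2).of_eq rfl (by rw [hneg]; ring) ?_)
      rw [hneg]; field_simp
    have heven : ∀ j, Good (List.replicate (2 * j) g) := by
      intro j
      induction j with
      | zero => exact Good.nil
      | succ j ih =>
        show Good (g :: g :: List.replicate (2 * j) g)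
        exact Good.append hpair ih
    obtain ⟨j, hj⟩ : Even (k + 1) := by
      by_contra hodd
      rw [hneg, (Nat.not_even_iff_odd.1 hodd).neg_one_pow] at hk
      exact h1 (hneg.trans hk)
    rw [hj, ← two_mul]
    exact heven j
  · refine StepL.good (s := 1) ((step_chain hg hg0 h2 h1 hm k).of_eq rfl hk ?_)
    rw [pow_mul, hk, one_pow, one_div_one]

theorem sq_blk {α : F} (hα : α ≠ 0) :
    ((X - C α) ^ 2).Monic ∧ ((X - C α) ^ 2).coeff 0 ≠ 0 ∧ ((X - C α) ^ 2).natDegree = 2 ∧
      dd ((X - C α) ^ 2) = α * α := by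
  refine ⟨(monic_X_sub_C α).pow 2, ?_, by rw [natDegree_pow, natDegree_X_sub_C], ?_⟩
  · simp [sq, mul_coeff_zero, hα]
  · rw [sq, dd_mul (monic_X_sub_C α) (monic_X_sub_C α), dd_X_sub_C]

/-- the chain through blocks with a single root -/
theorem step_root {α : F} (hα : α ≠ 0) (h1 : α ≠ 1) :
    ∀ L : List F[X], L ≠ [] → (∀ g ∈ L, g = (X - C α) ^ 2 ∨ g = X - C α) → ∀ s, s ≠ 0 →
      StepL L s (s * α ^ sz L) (s ^ sz L * α ^ (sz L).choose 2) := by
  obtain ⟨hm, h0, h2, hd⟩ := sq_blk hα
  have one : ∀ g, (g = (X - C α) ^ 2 ∨ g = X - C α) → ∀ s, s ≠ 0 →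
      StepL [g] s (s * α ^ g.natDegree) (s ^ g.natDegree * α ^ g.natDegree.choose 2) := by
    rintro g (rfl | rfl) s hs
    · rw [h2]
      refine (stepL_quad (η := s * α) hm h0 h2 hs (mul_ne_zero hs hα) ?_ ?_).of_eq rfl (by rw [hd]; ring)
        (by simp [Nat.choose]; ring)
      · intro h; exact h1 (mul_left_cancel₀ hs (h.trans (mul_one s).symm))
      · intro h; rw [hd] at h
        exact h1 (mul_left_cancel₀ (mul_ne_zero hs hα) (by linear_combination -h))
    · exact (stepL_linear (natDegree_X_sub_C α) s).of_eq rfl (by rw [dd_X_sub_C, natDegree_X_sub_C]; ring)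
        (by rw [natDegree_X_sub_C]; simp)
  intro L
  induction L with
  | nil => intro h; exact absurd rfl h
  | cons g L ih =>
    intro _ hmem s hs
    by_cases hL : L = []
    · subst hL
      exact (one g (hmem g List.mem_cons_self) s hs).of_eq rfl (by simp [sz]) (by simp [sz])
    · refine ((one g (hmem g List.mem_cons_self) s hs).append
        (ih hL (fun x hx => hmem x (List.mem_cons_of_mem _ hx)) _ (mul_ne_zero hs (pow_ne_zero _ hα)))).of_eq rfl ?_ ?_
      · rw [sz, pow_add]; ring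
      · rw [show sz (g :: L) = g.natDegree + sz L from rfl]
        rcases hmem g List.mem_cons_self with rfl | rfl
        · rw [h2, show 2 + sz L = sz L + 1 + 1 by omega, Nat.choose_succ_succ (sz L + 1) 1,
            Nat.choose_succ_succ (sz L) 1, Nat.choose_one_right, Nat.choose_one_right]
          simp only [Nat.choose_self, pow_add, mul_pow]; ring
        · rw [natDegree_X_sub_C, show 1 + sz L = sz L + 1 by omega, Nat.choose_succ_succ (sz L) 1, Nat.choose_one_right]
          simp only [pow_add, mul_pow, pow_one, show Nat.choose 1 2 = 0 from rfl, pow_zero]; ring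

theorem good_root [Fintype F] (h4 : 4 ≤ Fintype.card F) {α : F} (hα : α ≠ 0) (k s : ℕ)
    (hprod : ((List.replicate (k + 1) ((X - C α) ^ 2) ++ List.replicate s (X - C α)).map dd).prod = 1) :
    Good (List.replicate (k + 1) ((X - C α) ^ 2) ++ List.replicate s (X - C α)) := by
  obtain ⟨hm, h0, h2, hd⟩ := sq_blk hα
  obtain ⟨w, hw, hw1, hwm⟩ := exists_avoid h4 1 (-1)
  have hw2 : w * w ≠ 1 := fun h => by
    rcases mul_self_eq_one_iff.1 h with e | e
    · exact hw1 e
    · exact hwm e
  rw [List.map_append, List.map_replicate, List.map_replicate, hd, dd_X_sub_C, List.prod_append,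
    List.prod_replicate, List.prod_replicate, ← pow_two, ← pow_mul, ← pow_add] at hprod
  by_cases hsq : α * α = 1
  · refine Good.append (good_replicate (good_quad hm h0 h2 (by rw [hd, hsq]) hw hw2) _) ?_
    have hs : α ^ s = 1 := by
      rwa [pow_add, pow_mul, sq, hsq, one_pow, one_mul] at hprod
    rcases s with _ | s
    · exact Good.nil
    have := good_diag (a := s + 1) (b := 0) hα hα (by omega) (by simpa using hs)
    simpa using this
  have h1 : α ≠ 1 := fun h => hsq (by rw [h, one_mul])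
  set L := List.replicate k ((X - C α) ^ 2) ++ List.replicate s (X - C α) with hLdef
  have hmem : ∀ g ∈ L, g = (X - C α) ^ 2 ∨ g = X - C α := fun g hg =>
    (List.mem_append.1 hg).imp (fun h => List.eq_of_mem_replicate h) (fun h => List.eq_of_mem_replicate h)
  have hsz : sz L = 2 * k + s := by
    simp [hLdef, sz_eq_sum, natDegree_X_sub_C, natDegree_pow, mul_comm]
  obtain ⟨n, hn⟩ : ∃ n, n = 2 * (k + 1) + s := ⟨_, rfl⟩
  have hαn : α ^ n = 1 := by rw [hn]; exact hprod
  set ε := (α ^ n.choose 2)⁻¹ with hεdef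
  have hc : n.choose 2 * 2 = n * (n - 1) := by
    rw [Nat.choose_two_right, Nat.div_mul_cancel (Nat.even_mul_pred_self n).two_dvd]
  have hε2 : ε * ε = 1 := by
    rw [hεdef, ← mul_inv, ← pow_add, ← mul_two, hc, pow_mul, hαn, one_pow, inv_one]
  have hεn : ε ≠ 0 := fun h => by rw [h, zero_mul] at hε2; exact zero_ne_one hε2
  have e1 : α * ε ≠ 1 := fun h => hsq (by linear_combination α * ε * h + h - α * α * hε2)
  have e2 : ε ≠ α := fun h => hsq (by rw [← h]; exact hε2)
  have first : StepL [(X - C α) ^ 2] 1 (α * α) (α * ε) := by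
    refine (stepL_quad (η := α * ε) hm h0 h2 one_ne_zero (mul_ne_zero hα hεn) e1 ?_).of_eq rfl
      (by rw [hd, mul_one]) (mul_one _)
    rw [hd, mul_one]
    exact fun h => e2 (mul_left_cancel₀ hα h)
  show Good ((X - C α) ^ 2 :: (List.replicate k ((X - C α) ^ 2) ++ List.replicate s (X - C α)))
  rw [← hLdef]
  by_cases hL0 : L = []
  · rw [hL0] at hsz ⊢
    have h2n : n = 2 := by simp [sz] at hsz; omega
    refine StepL.good (s := 1) (first.of_eq rfl (by rw [← sq, ← h2n]; exact hαn) ?_)
    rw [hεdef, h2n, Nat.choose_self, pow_one, mul_inv_cancel₀ hα]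
  · refine StepL.good (s := 1) ((first.append (step_root hα h1 L hL0 hmem _ (mul_ne_zero hα hα))).of_eq rfl ?_ ?_)
    · rw [← sq, ← pow_add, hsz, show 2 + (2 * k + s) = n by omega]; exact hαn
    · rw [← sq, ← pow_mul, hsz, hεdef]
      have : n.choose 2 = (2 * k + s).choose 2 + (2 * (2 * k + s)) + 1 := by
        rw [hn, show 2 * (k + 1) + s = (2 * k + s) + 1 + 1 by omega, Nat.choose_succ_succ (2 * k + s + 1) 1,
          Nat.choose_succ_succ (2 * k + s) 1, Nat.choose_one_right, Nat.choose_one_right]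
        ring
      rw [this, mul_assoc, mul_comm _ (α ^ (2 * (2 * k + s)) * _), ← mul_assoc, ← pow_add, ← pow_succ',
        Nat.add_comm (2 * (2 * k + s))]
      exact mul_inv_cancel₀ (pow_ne_zero _ hα)

theorem ok_all [Fintype F] (h4 : 4 ≤ Fintype.card F) {g : F[X]} (hg : Blkish g) : Ok g := by
  rcases Nat.lt_or_ge g.natDegree 2 with h | h
  · exact ok_linear (by have := hg.2.2; omega)
  rcases h.eq_or_lt with h | h
  · refine ok_quad hg h.symm fun s _ => ?_
    obtain ⟨η, h1, h2, h3⟩ := exists_avoid h4 s (dd g * s)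
    exact ⟨η, h1, h2, h3⟩
  · obtain ⟨w, h1, h2, -⟩ := exists_avoid h4 1 1
    exact ok_big hg h (Or.inr ⟨w, h1, h2⟩)

theorem good_large [Fintype F] (h4 : 4 ≤ Fintype.card F) (L : List F[X]) (hL : ∀ g ∈ L, PP g)
    (hprod : (L.map dd).prod = 1) : Good L := by
  classical
  obtain ⟨w, hw0, hw1, -⟩ := exists_avoid h4 1 1
  have big : ∀ (g : F[X]) (R : List F[X]), Blkish g → 3 ≤ g.natDegree → (∀ f ∈ R, Blkish f) → ((g :: R).map dd).prod = 1 →
      Good (g :: R) := fun g R hg h3 hR hp =>
    good_of_big hg h3 (Or.inr ⟨w, hw0, hw1⟩) (fun f hf => ⟨ok_all h4 (hR f hf), (hR f hf).2.1⟩) hp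
  by_cases hL0 : L = []
  · subst hL0; exact Good.nil
  rcases shapes L hL hL0 with ⟨g, hg, h3⟩ | ⟨g, h, R, hp, hco, h3⟩ | ⟨g1, g2, g3, R, hp, d1, d2, d3, c12, c13, c23⟩ |
    ⟨p, k, hpm, hpi, hp2, rfl⟩ | ⟨α, k, s, hα, hp⟩ | ⟨h1, α, β, hv⟩
  · refine Good.perm (List.perm_cons_erase hg) (big g _ (hL g hg).blkish h3
      (fun f hf => (hL f (List.mem_of_mem_erase hf)).blkish) ?_)
    rw [← ((List.perm_cons_erase hg).map dd).prod_eq]; exact hprod
  · have hm : ∀ f ∈ g :: h :: R, Blkish f := fun f hf => (hL f (hp.mem_iff.2 hf)).blkish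
    have bg := hm g List.mem_cons_self
    have bh := hm h (by simp)
    refine Good.perm hp (Good.merge bg.1 bh.1 hco (big _ R (bg.mul bh) (by rw [bg.1.natDegree_mul bh.1]; exact h3)
      (fun f hf => hm f (by simp [hf])) ?_))
    rw [(hp.map dd).prod_eq] at hprod
    simpa [dd_mul bg.1 bh.1, mul_assoc] using hprod
  · have hm : ∀ f ∈ g1 :: g2 :: g3 :: R, Blkish f := fun f hf => (hL f (hp.mem_iff.2 hf)).blkish
    have b1 := hm g1 List.mem_cons_self
    have b2 := hm g2 (by simp)
    have b3 := hm g3 (by simp)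
    refine Good.perm hp (Good.merge b1.1 b2.1 c12 (Good.merge (b1.mul b2).1 b3.1 (c13.mul_left c23)
      (big _ R ((b1.mul b2).mul b3) (by rw [(b1.mul b2).1.natDegree_mul b3.1, b1.1.natDegree_mul b2.1]; omega)
        (fun f hf => hm f (by simp [hf])) ?_)))
    rw [(hp.map dd).prod_eq] at hprod
    rw [List.map_cons, List.prod_cons, dd_mul (b1.mul b2).1 b3.1, dd_mul b1.1 b2.1]
    simpa [mul_assoc] using hprod
  · exact good_quad_copies h4 hpm (hL p (by simp)).1 hp2 k (by simpa using hprod)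
  · exact Good.perm hp (good_root h4 hα k s (by rw [← (hp.map dd).prod_eq]; exact hprod))
  · exact good_linear_two L (fun g hg => ⟨hL g hg, h1 g hg⟩) hv hprod

end CfsgLib.Ore
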