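import Cfsg.Agent.Lib.Ore.Block
import Cfsg.Agent.Lib.ClassCount.Linear.Decomp

/-!
# Block diagonal matrices of companion matrices, given by lists of polynomials
-/

set_option autoImplicit false

open Matrix Polynomial

namespace CfsgLib.Ore

universe u

variable {F : Type u} [Field F]

/-- the lower coefficients -/
noncomputable def cof (g : F[X]) : Fin g.natDegree → F := fun i => g.coeff i

theorem cpoly_cof {g : F[X]} (h : g.Monic) : cpoly (cof g) = g := by
  conv_rhs => rw [h.as_sum]
  rw [cpoly, Fin.sum_univ_eq_sum_range (fun i => C (g.coeff i) * X ^ i) g.natDegree |>.symm]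
  rfl

/-- the size of a list of blocks -/
noncomputable def sz : List F[X] → ℕ
  | [] => 0
  | g :: L => g.natDegree + sz L

/-- the block diagonal matrix of a list of polynomials -/
noncomputable def blk : (L : List F[X]) → Matrix (Fin (sz L)) (Fin (sz L)) F
  | [] => 1
  | g :: L => (fromBlocks (comp (cof g)) 0 0 (blk L)).submatrix finSumFinEquiv.symm finSumFinEquiv.symm

/-- the determinant of a block -/
noncomputable def dd (g : F[X]) : F := (-1) ^ g.natDegree * g.coeff 0

theorem blk_cons (g : F[X]) (L : List F[X]) :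
    Sim (blk (g :: L)) (fromBlocks (comp (cof g)) 0 0 (blk L)) :=
  (Sim.reindex _ finSumFinEquiv.symm).symm

theorem sim_empty_right {α β : Type*} [Fintype α] [DecidableEq α] [Fintype β] [DecidableEq β] [IsEmpty β]
    (A : Matrix α α F) (B : Matrix β β F) : Sim (fromBlocks A 0 0 B) A :=
  (Sim.reindex _ (Equiv.sumEmpty α β).symm).trans (Sim.of_eq rfl)

theorem sim_empty_left {α β : Type*} [Fintype α] [DecidableEq α] [Fintype β] [DecidableEq β] [IsEmpty β]
    (A : Matrix α α F) (B : Matrix β β F) : Sim (fromBlocks B 0 0 A) A :=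
  (Sim.reindex _ (Equiv.emptySum β α).symm).trans (Sim.of_eq rfl)

theorem sim_swap {α β : Type*} [Fintype α] [DecidableEq α] [Fintype β] [DecidableEq β]
    (A : Matrix α α F) (B : Matrix β β F) : Sim (fromBlocks A 0 0 B) (fromBlocks B 0 0 A) :=
  (Sim.reindex _ (Equiv.sumComm β α)).trans (Sim.of_eq (fromBlocks_submatrix_sum_swap_sum_swap _ _ _ _))

theorem sim_assoc {α β γ : Type*} [Fintype α] [DecidableEq α] [Fintype β] [DecidableEq β] [Fintype γ]
    [DecidableEq γ] (A : Matrix α α F) (B : Matrix β β F) (C : Matrix γ γ F) :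
    Sim (fromBlocks (fromBlocks A 0 0 B) 0 0 C) (fromBlocks A 0 0 (fromBlocks B 0 0 C)) := by
  refine (Sim.reindex _ (Equiv.sumAssoc α β γ).symm).trans (Sim.of_eq ?_)
  ext i j
  rcases i with i | i | i <;> rcases j with j | j | j <;> rfl

theorem blk_single (g : F[X]) : Sim (blk [g]) (comp (cof g)) := by
  have : IsEmpty (Fin (sz ([] : List F[X]))) := Fin.isEmpty'
  exact (blk_cons g []).trans (sim_empty_right _ _)

theorem blk_append : ∀ L M : List F[X], Sim (blk (L ++ M)) (fromBlocks (blk L) 0 0 (blk M))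
  | [], M => by
    have : IsEmpty (Fin (sz ([] : List F[X]))) := Fin.isEmpty'
    exact (sim_empty_left (blk M) (blk ([] : List F[X]))).symm
  | g :: L, M =>
    ((blk_cons g (L ++ M)).trans ((Sim.refl _).blocks (blk_append L M))).trans
      ((sim_assoc _ _ _).symm.trans ((blk_cons g L).symm.blocks (Sim.refl _)))

theorem blk_perm {L M : List F[X]} (h : L.Perm M) : Sim (blk L) (blk M) := by
  induction h with
  | nil => exact Sim.refl _
  | cons g _ ih => exact (blk_cons g _).trans (((Sim.refl _).blocks ih).trans (blk_cons g _).symm)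
  | swap f g L =>
    refine (blk_cons g _).trans (((Sim.refl _).blocks (blk_cons f L)).trans ?_)
    refine (sim_assoc _ _ _).symm.trans (((sim_swap _ _).blocks (Sim.refl _)).trans ?_)
    exact (sim_assoc _ _ _).trans (((Sim.refl _).blocks (blk_cons g L).symm).trans (blk_cons f _).symm)
  | trans _ _ ih ih' => exact ih.trans ih'

theorem det_comp_cof {g : F[X]} (hg : g.Monic) : (comp (cof g)).det = dd g := by
  rcases Nat.eq_zero_or_pos g.natDegree with h | h
  · have : IsEmpty (Fin g.natDegree) := by rw [h]; exact Fin.isEmpty'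
    rw [Matrix.det_isEmpty, dd, h, pow_zero, one_mul, ← h, hg.coeff_natDegree]
  · obtain ⟨m, hm⟩ : ∃ m, g.natDegree = m + 1 := ⟨g.natDegree - 1, by omega⟩
    have hp : cpoly (cof g) = cpoly (fun i : Fin (m + 1) => g.coeff i) := by
      rw [cpoly, cpoly, Fin.sum_univ_eq_sum_range (fun i => C (g.coeff i) * X ^ i) (m + 1), ← hm,
        ← Fin.sum_univ_eq_sum_range (fun i => C (g.coeff i) * X ^ i) g.natDegree]
      rfl
    rw [(comp_congr _ _ hp).det_eq, det_comp, dd, hm]
    rfl

theorem det_blk : ∀ L : List F[X], (∀ g ∈ L, g.Monic) → (blk L).det = (L.map dd).prod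
  | [], _ => by simp [blk]
  | g :: L, h => by
    rw [(blk_cons g L).det_eq, det_fromBlocks_zero₁₂, det_blk L fun x hx => h x (List.mem_cons_of_mem _ hx),
      det_comp_cof (h g List.mem_cons_self), List.map_cons, List.prod_cons]

/-- commutator property of a list of blocks -/
def Good (L : List F[X]) : Prop := IsComm (blk L)

theorem Good.nil : Good ([] : List F[X]) := IsComm.one

theorem Good.perm {L M : List F[X]} (h : L.Perm M) (hM : Good M) : Good L := IsComm.of_sim (blk_perm h) hM

theorem Good.append {L M : List F[X]} (hL : Good L) (hM : Good M) : Good (L ++ M) :=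
  IsComm.of_sim (blk_append L M) (hL.blocks hM)

/-- chain links of lists -/
def StepL (L : List F[X]) (s t d : F) : Prop := Step (blk L) s t d

theorem StepL.perm {L M : List F[X]} (h : L.Perm M) {s t d : F} (hM : StepL M s t d) : StepL L s t d :=
  Step.of_sim (blk_perm h) hM

theorem StepL.append {L M : List F[X]} {s t v d d' : F} (hL : StepL L s t d) (hM : StepL M t v d') :
    StepL (L ++ M) s v (d * d') :=
  Step.of_sim (blk_append L M) (Step.append hL hM)

theorem StepL.good {L : List F[X]} {s : F} (h : StepL L s s 1) : Good L := Step.isComm h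

theorem StepL.of_eq {L : List F[X]} {s t d s' t' d' : F} (h : StepL L s t d) (hs : s = s') (ht : t = t')
    (hd : d = d') : StepL L s' t' d' := hs ▸ ht ▸ hd ▸ h

/-- the link of a block of size one -/
theorem stepL_linear {g : F[X]} (h1 : g.natDegree = 1) (s : F) :
    StepL [g] s (dd g * s) s := by
  refine Step.of_sim (blk_single g) ?_
  have e : Unit ≃ Fin g.natDegree := (finOneEquiv.symm).trans (finCongr h1.symm)
  have hA : ∀ i j, comp (cof g) i j = dd g := by
    intro i j
    have hi : (i : ℕ) = 0 := by have := i.2; omega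
    have hj : (j : ℕ) = 0 := by have := j.2; omega
    simp [comp, cof, dd, hi, hj, h1]
  have hS : ∀ u : F, Sim (diagonal fun _ : Fin g.natDegree => u) (ext1 (1 : Matrix (Fin 0) (Fin 0) F) u) :=
    fun u => (Sim.reindex _ ((Equiv.emptySum (Fin 0) Unit).trans e)).trans (Sim.of_eq (by
      ext i j
      rcases i with i | ⟨⟩
      · exact i.elim0
      rcases j with j | ⟨⟩
      · exact j.elim0
      simp [ext1]))
  refine Step.mk' (C := diagonal fun _ => s) (hS s) ?_ (by simp [h1])
  have : comp (cof g) * (diagonal fun _ => s) = diagonal fun _ => dd g * s := by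
    ext i j
    have : i = j := Fin.ext (by have := i.2; have := j.2; omega)
    subst this
    simp [hA]
  rw [this]
  exact hS _

/-- the link of a larger block -/
theorem stepL_block {g h : F[X]} (hg : g.Monic) (hg0 : g.coeff 0 ≠ 0) (hh : h.Monic)
    (hdeg : h.natDegree + 1 = g.natDegree) (hh1 : 1 ≤ h.natDegree) (hh0 : h.coeff 0 ≠ 0) {s : F}
    (hs : s ≠ 0) (h1 : h.eval s ≠ 0) (h2 : h.eval (dd g * s) ≠ 0) :
    StepL [g] s (dd g * s) (dd h * s) := by
  obtain ⟨m, hm⟩ : ∃ m, h.natDegree = m + 1 := ⟨h.natDegree - 1, by omega⟩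
  let a : Fin (m + 2) → F := fun i => g.coeff i
  let c : Fin (m + 1) → F := fun i => h.coeff i
  have ha : cpoly (cof g) = cpoly a := by
    rw [cpoly_cof hg]
    conv_lhs => rw [hg.as_sum, show g.natDegree = m + 2 by omega]
    rw [cpoly, ← Fin.sum_univ_eq_sum_range (fun i => C (g.coeff i) * X ^ i) (m + 2)]
  have hc : cpoly c = h := by
    conv_rhs => rw [hh.as_sum, hm]
    rw [cpoly, ← Fin.sum_univ_eq_sum_range (fun i => C (h.coeff i) * X ^ i) (m + 1)]
  have hda : (comp a).det = dd g := by rw [← (comp_congr _ _ ha).det_eq, det_comp_cof hg]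
  have hdc : (comp c).det = dd h := by rw [det_comp, dd, hm]; rfl
  have key := step_block a (by simpa [a] using hg0) c s (dd g * s) hs (by rw [hda])
    (by simpa [c] using hh0) (by rw [hc]; exact h1) (by rw [hc]; exact h2)
  rw [hdc] at key
  exact Step.of_sim ((blk_single g).trans (comp_congr _ _ ha)) key

/-- two coprime blocks make one -/
theorem blk_merge {g h : F[X]} (hg : g.Monic) (hh : h.Monic) (hco : IsCoprime g h) (L : List F[X]) :
    Sim (blk (g :: h :: L)) (blk (g * h :: L)) := by
  refine (blk_cons g _).trans (((Sim.refl _).blocks (blk_cons h L)).trans ?_)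
  refine (sim_assoc _ _ _).symm.trans ((Sim.blocks ?_ (Sim.refl _)).trans (blk_cons _ L).symm)
  set A := comp (cof g)
  set B := comp (cof h)
  have hpow : ∀ k, (fromBlocks A 0 0 B) ^ k = fromBlocks (A ^ k) 0 0 (B ^ k) := by
    intro k
    induction k with
    | zero => simp [fromBlocks_one]
    | succ k ih => rw [pow_succ, ih, fromBlocks_multiply]; simp [pow_succ]
  have hev : ∀ q : F[X], aeval (fromBlocks A 0 0 B) q = fromBlocks (aeval A q) 0 0 (aeval B q) := by
    intro q
    induction q using Polynomial.induction_on' with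
    | add p q hp hq => simp [hp, hq, fromBlocks_add]
    | monomial n a => simp [aeval_monomial, hpow, ← Algebra.smul_def, fromBlocks_smul]
  have hkill : ∀ q : F[X], aeval (fromBlocks A 0 0 B) q *ᵥ Sum.elim (ev F _ 0) (ev F _ 0) =
      Sum.elim (aeval A q *ᵥ ev F _ 0) (aeval B q *ᵥ ev F _ 0) := fun q => by
    rw [hev, fromBlocks_mulVec]
    simp [Function.comp_def]
  have hA : ∀ q, aeval A (g * q) = 0 := fun q => by
    have := aeval_comp (cof g)
    rw [cpoly_cof hg] at this
    rw [map_mul, this, zero_mul]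
  have hB : ∀ q, aeval B (h * q) = 0 := fun q => by
    have := aeval_comp (cof h)
    rw [cpoly_cof hh] at this
    rw [map_mul, this, zero_mul]
  refine sim_comp ?_ (fromBlocks A 0 0 B) (Sum.elim (ev F _ 0) (ev F _ 0)) ?_ _ ?_
  · simp [hg.natDegree_mul hh]
  · intro w
    obtain ⟨u, v, huv⟩ := hco
    obtain ⟨a, ha⟩ := comp_cyc (cof g) (w ∘ Sum.inl)
    obtain ⟨b, hb⟩ := comp_cyc (cof h) (w ∘ Sum.inr)
    refine ⟨a * (v * h) + b * (u * g), ?_⟩
    have e1 : a * (v * h) + b * (u * g) = a + g * (u * (b - a)) := by linear_combination a * huv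
    have e2 : a * (v * h) + b * (u * g) = b + h * (v * (a - b)) := by linear_combination b * huv
    rw [hkill]
    conv_lhs => arg 1; rw [e1, map_add, hA, add_zero]
    conv_lhs => arg 2; rw [e2, map_add, hB, add_zero]
    rw [ha, hb, Sum.elim_comp_inl_inr]
  · rw [cpoly_cof (hg.mul hh), hkill, hA, mul_comm g h, hB, Matrix.zero_mulVec, Matrix.zero_mulVec]
    ext (i | i) <;> rfl

theorem Good.merge {g h : F[X]} (hg : g.Monic) (hh : h.Monic) (hco : IsCoprime g h) {L : List F[X]}
    (hG : Good (g * h :: L)) : Good (g :: h :: L) :=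
  IsComm.of_sim (blk_merge hg hh hco L) hG

/-- a power of a monic irreducible polynomial, with non-zero constant term -/
def PP (g : F[X]) : Prop :=
  g.coeff 0 ≠ 0 ∧ ∃ (p : F[X]) (k : ℕ), p.Monic ∧ Irreducible p ∧ 0 < k ∧ g = p ^ k

theorem PP.monic {g : F[X]} (h : PP g) : g.Monic := by
  obtain ⟨-, p, k, hp, -, -, rfl⟩ := h
  exact hp.pow k

theorem PP.deg_pos {g : F[X]} (h : PP g) : 0 < g.natDegree := by
  obtain ⟨-, p, k, hp, hi, hk, rfl⟩ := h
  rw [natDegree_pow]
  exact Nat.mul_pos hk hi.natDegree_pos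

/-- different primes give coprime blocks -/
theorem PP.coprime_or {g h : F[X]} (hg : PP g) (hh : PP h) :
    IsCoprime g h ∨ ∃ (p : F[X]) (k l : ℕ), p.Monic ∧ Irreducible p ∧ 0 < k ∧ 0 < l ∧ g = p ^ k ∧ h = p ^ l := by
  obtain ⟨-, p, k, hp, hi, hk, rfl⟩ := hg
  obtain ⟨-, q, l, hq, hj, hl, rfl⟩ := hh
  by_cases hpq : p = q
  · subst hpq
    exact Or.inr ⟨p, k, l, hp, hi, hk, hl, rfl, rfl⟩
  · refine Or.inl (((hi.coprime_iff_not_dvd).2 fun hd => hpq ?_).pow)
    exact eq_of_monic_of_associated hp hq (hi.associated_of_dvd hj hd)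

theorem exists_blk {n : ℕ} (A : Matrix (Fin n) (Fin n) F) :
    ∀ l : List (F[X] × (Fin n → F)), (∀ x ∈ l, x.1.Monic ∧ aeval A x.1 *ᵥ x.2 = 0) →
      ∃ P : Matrix (Fin n) (Fin (sz (l.map Prod.fst))) F, A * P = P * blk (l.map Prod.fst) ∧
        ∀ x ∈ l, ∃ y, P *ᵥ y = x.2
  | [], _ => ⟨0, by simp, by simp⟩
  | (g, v) :: l, h => by
    obtain ⟨P, hP, hv⟩ := exists_blk A l fun x hx => h x (List.mem_cons_of_mem _ hx)
    have hg : g.Monic := (h (g, v) List.mem_cons_self).1
    have hgv : aeval A g *ᵥ v = 0 := (h (g, v) List.mem_cons_self).2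
    let K : Matrix (Fin n) (Fin g.natDegree) F := of fun a j => (A ^ (j : ℕ) *ᵥ v) a
    have hK : A * K = K * comp (cof g) := krylov_comp A v _ (by rw [cpoly_cof hg]; exact hgv)
    refine ⟨(fromCols K P).submatrix id finSumFinEquiv.symm, ?_, ?_⟩
    · show A * (fromCols K P).submatrix id finSumFinEquiv.symm = (fromCols K P).submatrix id finSumFinEquiv.symm *
        ((fromBlocks (comp (cof g)) 0 0 (blk (l.map Prod.fst))).submatrix finSumFinEquiv.symm finSumFinEquiv.symm)
      rw [Matrix.submatrix_mul_equiv, fromCols_mul_fromBlocks, Matrix.mul_zero, Matrix.mul_zero, add_zero,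
        zero_add, ← hK, ← hP, ← mul_fromCols]
      ext i j
      simp only [Matrix.mul_apply, Matrix.submatrix_apply, id_eq]
    · intro x hx
      have hsub : ∀ z, (fromCols K P).submatrix id finSumFinEquiv.symm *ᵥ (z ∘ finSumFinEquiv.symm) =
          fromCols K P *ᵥ z := fun z => by
        rw [Matrix.submatrix_mulVec_equiv]
        simp [Function.comp_assoc]
      rcases List.mem_cons.1 hx with rfl | hx
      · rcases Nat.eq_zero_or_pos g.natDegree with h0 | h0
        · refine ⟨0, ?_⟩
          have : g = 1 := hg.natDegree_eq_zero.1 h0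
          rw [this, map_one, Matrix.one_mulVec] at hgv
          show _ = v
          rw [Matrix.mulVec_zero, hgv]
        · refine ⟨Sum.elim (Pi.single ⟨0, h0⟩ 1) 0 ∘ finSumFinEquiv.symm, (hsub _).trans ?_⟩
          rw [fromCols_mulVec]
          simp only [Sum.elim_comp_inl, Sum.elim_comp_inr, Matrix.mulVec_zero, add_zero, Matrix.mulVec_single_one]
          ext i
          simp [K]
      · obtain ⟨y, hy⟩ := hv x hx
        refine ⟨Sum.elim 0 y ∘ finSumFinEquiv.symm, (hsub _).trans ?_⟩
        rw [fromCols_mulVec]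
        simp [hy]

theorem sz_eq_sum : ∀ L : List F[X], sz L = (L.map natDegree).sum
  | [] => rfl
  | g :: L => by simp [sz, sz_eq_sum L]

theorem blk_filter : ∀ L : List F[X], (∀ g ∈ L, g.Monic) →
    Sim (blk L) (blk (L.filter fun g => decide (g.natDegree ≠ 0)))
  | [], _ => Sim.refl _
  | g :: L, h => by
    have ih := blk_filter L fun x hx => h x (List.mem_cons_of_mem _ hx)
    by_cases hd : g.natDegree = 0
    · rw [List.filter_cons_of_neg (by simp [hd])]
      have : IsEmpty (Fin g.natDegree) := by rw [hd]; exact Fin.isEmpty'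
      exact ((blk_cons g L).trans (sim_empty_left _ _)).trans ih
    · rw [List.filter_cons_of_pos (by simp [hd])]
      exact (blk_cons g L).trans (((Sim.refl _).blocks ih).trans (blk_cons g _).symm)

/-- primary decomposition in matrix language -/
theorem exists_primary {n : ℕ} (A : Matrix (Fin n) (Fin n) F) (hA : A.det ≠ 0) :
    ∃ L : List F[X], Sim A (blk L) ∧ (∀ g ∈ L, PP g) ∧ (L.map dd).prod = A.det ∧ sz L = n := by
  classical
  obtain ⟨D⟩ := ClassNumber.exists_decomp (Matrix.toLin' A)
  let g : D.ι → F[X] := fun i => D.p i ^ D.e i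
  let v : D.ι → Fin n → F := fun i => D.Φ.symm (Pi.single i 1)
  have haev : ∀ (P : F[X]) (w : Fin n → F), aeval (Matrix.toLin' A) P w = aeval A P *ᵥ w := fun P w => by
    rw [← Matrix.toLinAlgEquiv'_apply (aeval A P) w]
    exact (congrArg (fun f : Module.End F (Fin n → F) => f w)
      (aeval_algHom_apply (Matrix.toLinAlgEquiv' (R := F) (n := Fin n)).toAlgHom A P)).trans rfl
  let l := (Finset.univ : Finset D.ι).toList.map fun i => (g i, v i)
  have hl : ∀ x ∈ l, x.1.Monic ∧ aeval A x.1 *ᵥ x.2 = 0 := by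
    intro x hx
    obtain ⟨i, -, rfl⟩ := List.mem_map.1 hx
    refine ⟨D.pow_monic i, ?_⟩
    rw [← haev]
    refine D.Φ.injective (funext fun j => ?_)
    rw [D.aeval_apply, map_zero, LinearEquiv.apply_symm_apply]
    by_cases hij : j = i
    · subst hij
      rw [AdjoinRoot.mk_eq_zero.2 dvd_rfl, zero_mul, Pi.zero_apply]
    · rw [Pi.single_eq_of_ne hij, mul_zero, Pi.zero_apply]
  obtain ⟨P, hP, hv⟩ := exists_blk A l hl
  have hmap : l.map Prod.fst = (Finset.univ : Finset D.ι).toList.map g := by simp [l, Function.comp_def]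
  have hsz : sz (l.map Prod.fst) = n := by
    rw [hmap, sz_eq_sum, List.map_map, Finset.sum_map_toList]
    have := D.finrank_eq
    rw [Module.finrank_fin_fun] at this
    exact (Finset.sum_congr rfl fun i _ => by simp [g, natDegree_pow]).trans this.symm
  have hsurj : ∀ w, ∃ y, P *ᵥ y = w := by
    intro w
    choose Q hQ using fun i => AdjoinRoot.mk_surjective (D.Φ w i)
    have hw : w = ∑ i, aeval A (Q i) *ᵥ v i := by
      refine D.Φ.injective (funext fun j => ?_)
      rw [map_sum, Finset.sum_apply, Finset.sum_eq_single j]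
      · rw [← haev, D.aeval_apply, LinearEquiv.apply_symm_apply, Pi.single_eq_same, mul_one, hQ]
      · intro i _ hij
        rw [← haev, D.aeval_apply, LinearEquiv.apply_symm_apply, Pi.single_eq_of_ne hij.symm, mul_zero]
      · simp
    choose y hy using fun i => hv (g i, v i) (List.mem_map.2 ⟨i, Finset.mem_toList.2 (Finset.mem_univ i), rfl⟩)
    refine ⟨∑ i, aeval (blk (l.map Prod.fst)) (Q i) *ᵥ y i, ?_⟩
    rw [Matrix.mulVec_sum, hw]
    refine Finset.sum_congr rfl fun i _ => ?_
    rw [Matrix.mulVec_mulVec, ← aeval_mul_intertwine A _ P hP, ← Matrix.mulVec_mulVec, hy]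
  obtain ⟨Q, hPQ, hQP⟩ := exists_inv_of_surj (by rw [Fintype.card_fin, Fintype.card_fin, hsz]) P hsurj
  have hsim : Sim A (blk (l.map Prod.fst)) := ⟨P, Q, hPQ, hQP, hP⟩
  have hmon : ∀ x ∈ l.map Prod.fst, x.Monic := fun x hx => by
    obtain ⟨y, hy, rfl⟩ := List.mem_map.1 hx
    exact (hl y hy).1
  let L := (l.map Prod.fst).filter fun g => decide (g.natDegree ≠ 0)
  have hsimL : Sim A (blk L) := hsim.trans (blk_filter _ hmon)
  have hdet : (L.map dd).prod = A.det := by
    rw [hsimL.det_eq, det_blk L fun x hx => hmon x (List.mem_filter.1 hx).1]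
  refine ⟨L, hsimL, fun x hx => ?_, hdet, ?_⟩
  · obtain ⟨hx1, hx2⟩ := List.mem_filter.1 hx
    refine ⟨fun h0 => hA ?_, ?_⟩
    · rw [← hdet]
      exact List.prod_eq_zero (List.mem_map.2 ⟨x, hx, by simp [dd, h0]⟩)
    · obtain ⟨y, hy, rfl⟩ := List.mem_map.1 hx1
      obtain ⟨i, -, rfl⟩ := List.mem_map.1 hy
      simp only [g, ne_eq, decide_eq_true_eq, natDegree_pow] at hx2
      exact ⟨D.p i, D.e i, D.monic i, D.irr i, Nat.pos_of_ne_zero fun he => hx2 (by rw [he, zero_mul]), rfl⟩
  · obtain ⟨P', Q', h1, h2, -⟩ := hsimL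
    have a1 := Matrix.rank_mul_le_left P' Q'
    have a2 := Matrix.rank_mul_le_right Q' P'
    have b1 := P'.rank_le_width
    have b2 := P'.rank_le_height
    rw [h1, Matrix.rank_one, Fintype.card_fin] at a1
    rw [h2, Matrix.rank_one, Fintype.card_fin] at a2
    omega

end CfsgLib.Ore
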