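import Cfsg.Agent.Lib.Ore.SmallBase

/-!
# The field with three elements

The only blocks without a link at every scalar are the irreducible quadratics of determinant `-1`.
-/

set_option autoImplicit false

open Matrix Polynomial

namespace CfsgLib.Ore

local notation "F3" => ZMod 3

instance : Fact (Nat.Prime 3) := ⟨Nat.prime_three⟩

theorem sign_three : ∀ x : F3, x ≠ 0 → x = 1 ∨ x = -1 := by decide

theorem exists_avoid_one : ∃ w : F3, w ≠ 0 ∧ w ≠ 1 := ⟨-1, by decide, by decide⟩

/-- a block without links -/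
def Bad (g : F3[X]) : Prop := g.Monic ∧ Irreducible g ∧ g.natDegree = 2 ∧ dd g = -1

theorem dd_deg_two {g : F3[X]} (h2 : g.natDegree = 2) : dd g = g.coeff 0 := by
  rw [dd, h2]; ring

theorem Bad.cases {g : F3[X]} (h : Bad g) : g = cpoly ![2, 1] ∨ g = cpoly ![2, 2] := by
  obtain ⟨hm, hi, h2, hd⟩ := h
  have hc := eq_cpoly_two hm h2
  rw [dd_deg_two h2] at hd
  rw [hd] at hc
  have h1 : g.eval 1 ≠ 0 := hi.not_isRoot_of_natDegree_ne_one (by omega)
  rw [hc, cpoly_eval, Fin.sum_univ_two] at h1
  simp at h1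
  rcases sign_three _ h1 with e | e <;> rw [e] at hc
  · exact Or.inl hc
  · exact Or.inr hc

theorem Bad.blkish {g : F3[X]} (h : Bad g) : Blkish g := by
  refine ⟨h.1, ?_, by rw [h.2.2.1]; omega⟩
  rw [← dd_deg_two h.2.2.1, h.2.2.2]; decide

theorem bad_frame {g : F3[X]} (h : Bad g) :
    Frame (fromBlocks (comp (cof g)) 0 0 (comp (cof g))) q4 ∧ Good [g, g] ∧ StepL [g, g] 1 1 (-1) := by
  rcases h.cases with hc | hc
  · have e := (sim_cof h.1 _ hc).blocks (sim_cof h.1 _ hc)
    exact ⟨Frame.of_sim e wit_three_pp1.1, IsComm.of_sim ((blk_two g g).trans e) wit_three_pp1.2,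
      Step.of_sim ((blk_two g g).trans e) wit_three_step_pp1⟩
  · have e := (sim_cof h.1 _ hc).blocks (sim_cof h.1 _ hc)
    exact ⟨Frame.of_sim e wit_three_pp2.1, IsComm.of_sim ((blk_two g g).trans e) wit_three_pp2.2,
      Step.of_sim ((blk_two g g).trans e) wit_three_step_pp2⟩

theorem Bad.coprime {g h : F3[X]} (hg : Bad g) (hh : Bad h) (hne : g ≠ h) : IsCoprime g h :=
  hg.2.1.coprime_iff_not_dvd.2 fun hd =>
    hne (eq_of_monic_of_associated hg.1 hh.1 (hg.2.1.associated_of_dvd hh.2.1 hd))

/-- two blocks without links -/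
theorem bad_pair {g h : F3[X]} (hg : Bad g) (hh : Bad h) : Good [g, h] := by
  by_cases he : g = h
  · subst he; exact (bad_frame hg).2.1
  · refine Good.merge hg.1 hh.1 (hg.coprime hh he) (good_of_big (hg.blkish.mul hh.blkish)
      (by rw [hg.1.natDegree_mul hh.1, hg.2.2.1, hh.2.2.1]; omega) (Or.inr exists_avoid_one) (by simp) ?_)
    simp [dd_mul hg.1 hh.1, hg.2.2.2, hh.2.2.2]

theorem step_quad_three {g : F3[X]} (hg : Blkish g) (h2 : g.natDegree = 2) (hd : dd g = 1) {s : F3}
    (hs : s ≠ 0) : StepL [g] s s (-1) := by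
  rcases sign_three s hs with rfl | rfl
  · exact (stepL_quad (η := -1) hg.1 hg.2.1 h2 hs (by decide) (by decide) (by rw [hd]; decide)).of_eq rfl
      (by rw [hd, one_mul]) (by decide)
  · exact (stepL_quad (η := 1) hg.1 hg.2.1 h2 hs (by decide) (by decide) (by rw [hd]; decide)).of_eq rfl
      (by rw [hd, one_mul]) (by decide)

theorem ok_three {g : F3[X]} (hg : PP g) (hb : ¬ Bad g) : Ok g := by
  rcases Nat.lt_or_ge g.natDegree 3 with h | h
  · have := hg.deg_pos
    rcases (show g.natDegree = 1 ∨ g.natDegree = 2 by omega) with h1 | h2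
    · exact ok_linear h1
    · have hd : dd g = 1 := by
        rcases sign_three _ (dd_ne_zero hg.1) with hd | hd
        · exact hd
        · obtain ⟨-, q, k, hq, hqi, hk, rfl⟩ := id hg
          rw [natDegree_pow] at h2
          have hq0 := hqi.natDegree_pos
          rcases (show k = 1 ∨ k = 2 by
            have : k ≤ k * q.natDegree := Nat.le_mul_of_pos_right k hq0
            omega) with rfl | rfl
          · rw [pow_one] at hb hd ⊢
            exact absurd ⟨hq, hqi, by omega, hd⟩ hb
          · rw [sq, dd_mul hq hq] at hd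
            exact absurd hd ((show ∀ x : F3, x * x ≠ -1 by decide) _)
      intro s hs
      exact ⟨-1, by decide, (step_quad_three hg.blkish h2 hd hs).of_eq rfl (by rw [hd, one_mul]) rfl⟩
  · exact ok_big hg.blkish h (Or.inr exists_avoid_one)

theorem good_big_three {g : F3[X]} {R : List F3[X]} (hg : Blkish g) (h3 : 3 ≤ g.natDegree)
    (hR : ∀ f ∈ R, PP f ∧ ¬ Bad f) (hprod : ((g :: R).map dd).prod = 1) : Good (g :: R) :=
  good_of_big hg h3 (Or.inr exists_avoid_one) (fun f hf => ⟨ok_three (hR f hf).1 (hR f hf).2, (hR f hf).1.1⟩) hprod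

theorem good_bad_even : ∀ (k : ℕ) (B : List F3[X]), B.length = 2 * k → (∀ g ∈ B, Bad g) → Good B
  | 0, B, hB, _ => by rw [List.length_eq_zero_iff.1 hB]; exact Good.nil
  | k + 1, [], hB, _ => by simp at hB
  | k + 1, [_], hB, _ => by simp at hB; omega
  | k + 1, g :: h :: B, hB, hb =>
    Good.append (L := [g, h]) (bad_pair (hb g List.mem_cons_self) (hb h (by simp)))
      (good_bad_even k B (by simp at hB; omega) fun x hx => hb x (by simp [hx]))

/-- copies of `(X + 1) ^ 2` -/
theorem stepL_neg (s : F3) (hs : s ≠ 0) : StepL [(X - C (-1 : F3)) ^ 2] s s (-1) := by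
  obtain ⟨hm, h0, h2, hd⟩ := sq_blk (show (-1 : F3) ≠ 0 by decide)
  exact step_quad_three ⟨hm, h0, by omega⟩ h2 (by rw [hd]; decide) hs

theorem good_neg_diag (i : ℕ) : Good (List.replicate (2 * i) (X - C (-1 : F3))) := by
  rcases i with _ | i
  · exact Good.nil
  have := good_diag (a := 2 * (i + 1)) (b := 0) (show (-1 : F3) ≠ 0 by decide) (show (-1 : F3) ≠ 0 by decide)
    (by omega) (by rw [pow_mul, neg_one_sq, one_pow, pow_zero, mul_one])
  simpa using this

theorem good_neg_even (i : ℕ) : Good (List.replicate (2 * i) ((X - C (-1 : F3)) ^ 2)) := by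
  induction i with
  | zero => exact Good.nil
  | succ i ih =>
    show Good (_ :: _ :: List.replicate (2 * i) ((X - C (-1 : F3)) ^ 2))
    exact Good.append (L := [_, _]) (StepL.good (s := 1)
      (((stepL_neg 1 one_ne_zero).append (stepL_neg 1 one_ne_zero)).of_eq rfl rfl (by decide))) ih

theorem good_neg (k s : ℕ) (hks : 3 ≤ 2 * (k + 1) + s) (hs : Even s) :
    Good (List.replicate (k + 1) ((X - C (-1 : F3)) ^ 2) ++ List.replicate s (X - C (-1 : F3))) := by
  set J := (X - C (-1 : F3)) ^ 2 with hJ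
  set l := X - C (-1 : F3) with hl
  obtain ⟨t, rfl⟩ := hs
  rw [← two_mul] at hks ⊢
  rcases Nat.even_or_odd' (k + 1) with ⟨i, hi | hi⟩
  · rw [hi]
    exact Good.append (good_neg_even i) (good_neg_diag t)
  · rw [hi]
    rcases i with _ | i
    · obtain ⟨t, rfl⟩ : ∃ t', t = t' + 1 := ⟨t - 1, by omega⟩
      show Good (J :: l :: l :: List.replicate (2 * t) l)
      refine Good.perm ((List.Perm.swap l J _)) (Good.append (L := [l, J, l]) (StepL.good (s := 1)
        ((((stepL_linear (natDegree_X_sub_C _) 1).append (stepL_neg _ (by rw [dd_X_sub_C]; decide))).append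
          (stepL_linear (natDegree_X_sub_C _) _)).of_eq rfl (by simp only [dd_X_sub_C]; decide)
          (by simp only [dd_X_sub_C]; decide))) (good_neg_diag t))
    · refine Good.append ?_ (good_neg_diag t)
      show Good (J :: J :: J :: List.replicate (2 * i) J)
      refine Good.append (L := [J, J, J]) ?_ (good_neg_even i)
      have hc : J = cpoly (![1, 2] : Fin 2 → F3) := by
        have h3 : (3 : F3[X]) = 0 := by
          rw [show (3 : F3[X]) = C 3 from (map_ofNat _ 3).symm, show (3 : F3) = 0 from rfl, map_zero]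
        rw [hJ, hl]
        simp only [cpoly, Fin.sum_univ_two, Matrix.cons_val_zero, Matrix.cons_val_one, Fin.val_zero, Fin.val_one,
          pow_zero, pow_one, mul_one, map_neg, map_one, sub_neg_eq_add, map_ofNat]
        ring
      have hm : J.Monic := (monic_X_sub_C _).pow 2
      have hJJ : StepL [J, J] 1 1 (-1) :=
        Step.of_sim ((blk_two J J).trans ((sim_cof hm _ hc).blocks (sim_cof hm _ hc))) wit_three_step
      exact StepL.good (s := 1) ((hJJ.append (stepL_neg 1 one_ne_zero)).of_eq rfl rfl (by decide))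

theorem good_pos (k s : ℕ) (hks : 3 ≤ 2 * (k + 1) + s) :
    Good (List.replicate (k + 1) ((X - C (1 : F3)) ^ 2) ++ List.replicate s (X - C (1 : F3))) := by
  have hone : Good [X - C (1 : F3)] := StepL.good (s := 1)
    ((stepL_linear (natDegree_X_sub_C _) 1).of_eq rfl (by rw [dd_X_sub_C, one_mul]) rfl)
  rcases k with _ | k
  · obtain ⟨s, rfl⟩ : ∃ s', s = s' + 1 := ⟨s - 1, by omega⟩
    exact Good.append (L := [_, _]) good_jordan_fix (good_replicate hone s)
  · exact Good.append (good_jordan k) (good_replicate hone s)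

/-- no block without links, not a single block of size two -/
theorem good_ok_three (R : List F3[X]) (hR : ∀ f ∈ R, PP f ∧ ¬ Bad f) (hprod : (R.map dd).prod = 1) :
    Good R ∨ ∃ J, R = [J] ∧ J.natDegree = 2 ∧ dd J = 1 ∧ ¬ Irreducible J := by
  classical
  by_cases hR0 : R = []
  · subst hR0; exact Or.inl Good.nil
  rcases shapes R (fun f hf => (hR f hf).1) hR0 with ⟨g, hg, h3⟩ | ⟨g, h, L, hp, hco, h3⟩ |
    ⟨g1, g2, g3, L, hp, d1, d2, d3, c12, c13, c23⟩ | ⟨p, k, hpm, hpi, hp2, rfl⟩ | ⟨α, k, s, hα, hp⟩ |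
    ⟨h1, α, β, hv⟩
  · refine Or.inl (Good.perm (List.perm_cons_erase hg) (good_big_three (hR g hg).1.blkish h3
      (fun f hf => hR f (List.mem_of_mem_erase hf)) ?_))
    rw [← ((List.perm_cons_erase hg).map dd).prod_eq]; exact hprod
  · have hm : ∀ f ∈ g :: h :: L, PP f ∧ ¬ Bad f := fun f hf => hR f (hp.mem_iff.2 hf)
    have bg := (hm g List.mem_cons_self).1.blkish
    have bh := (hm h (by simp)).1.blkish
    refine Or.inl (Good.perm hp (Good.merge bg.1 bh.1 hco (good_big_three (bg.mul bh)
      (by rw [bg.1.natDegree_mul bh.1]; exact h3) (fun f hf => hm f (by simp [hf])) ?_)))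
    rw [(hp.map dd).prod_eq] at hprod
    rw [List.map_cons, List.prod_cons, dd_mul bg.1 bh.1]
    simpa [mul_assoc] using hprod
  · have hm : ∀ f ∈ g1 :: g2 :: g3 :: L, PP f ∧ ¬ Bad f := fun f hf => hR f (hp.mem_iff.2 hf)
    have b1 := (hm g1 List.mem_cons_self).1.blkish
    have b2 := (hm g2 (by simp)).1.blkish
    have b3 := (hm g3 (by simp)).1.blkish
    refine Or.inl (Good.perm hp (Good.merge b1.1 b2.1 c12 (Good.merge (b1.mul b2).1 b3.1 (c13.mul_left c23)
      (good_big_three ((b1.mul b2).mul b3)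
        (by rw [(b1.mul b2).1.natDegree_mul b3.1, b1.1.natDegree_mul b2.1]; omega)
        (fun f hf => hm f (by simp [hf])) ?_))))
    rw [(hp.map dd).prod_eq] at hprod
    rw [List.map_cons, List.prod_cons, dd_mul (b1.mul b2).1 b3.1, dd_mul b1.1 b2.1]
    simpa [mul_assoc] using hprod
  · obtain ⟨hpp, hb⟩ := hR p (by simp)
    have hd : dd p = 1 := by
      rcases sign_three _ (dd_ne_zero hpp.1) with hd | hd
      · exact hd
      · exact absurd ⟨hpm, hpi, hp2, hd⟩ hb
    refine Or.inl (good_replicate ?_ _)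
    have hc := eq_cpoly_two hpm hp2
    rw [dd_deg_two hp2] at hd
    rw [hd] at hc
    have r1 : p.eval 1 ≠ 0 := hpi.not_isRoot_of_natDegree_ne_one (by omega)
    have r2 : p.eval (-1) ≠ 0 := hpi.not_isRoot_of_natDegree_ne_one (by omega)
    rw [hc, cpoly_eval, Fin.sum_univ_two] at r1 r2
    simp at r1 r2
    have h0 : p.coeff 1 = 0 := by
      revert r1 r2
      generalize p.coeff 1 = x
      revert x
      decide
    rw [h0] at hc
    exact IsComm.of_sim ((blk_single p).trans (sim_cof hpm _ hc)) wit_three_sq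
  · have hα2 : α * α = 1 := by rcases sign_three α hα with rfl | rfl <;> decide
    by_cases hn : k = 0 ∧ s = 0
    · obtain ⟨rfl, rfl⟩ := hn
      refine Or.inr ⟨(X - C α) ^ 2, List.perm_singleton.1 hp, by rw [natDegree_pow, natDegree_X_sub_C],
        by rw [(sq_blk hα).2.2.2, hα2], fun hi => ?_⟩
      exact not_irreducible_pow (by omega) hi
    rw [(hp.map dd).prod_eq, List.map_append, List.map_replicate, List.map_replicate, List.prod_append,
      List.prod_replicate, List.prod_replicate, (sq_blk hα).2.2.2, hα2, one_pow, one_mul, dd_X_sub_C] at hprod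
    refine Or.inl (Good.perm hp ?_)
    rcases sign_three α hα with rfl | rfl
    · exact good_pos k s (by omega)
    · refine good_neg k s (by omega) (Nat.not_odd_iff_even.1 fun ho => ?_)
      rw [ho.neg_one_pow] at hprod
      exact absurd hprod (by decide)
  · exact Or.inl (good_linear_two R (fun g hg => ⟨(hR g hg).1, h1 g hg⟩) hv hprod)

/-- an odd power of a block without links, beside that block -/
theorem good_bad_power {p : F3[X]} (hp : Bad p) {j : ℕ} (hj : Odd j) (h3 : 3 ≤ j) : Good [p, p ^ j] := by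
  obtain ⟨i, rfl⟩ : ∃ i, j = i + 1 := ⟨j - 1, by omega⟩
  have hi : Even i := by
    rcases hj with ⟨r, hr⟩
    exact ⟨r, by omega⟩
  refine IsComm.of_sim (blk_two _ _) ?_
  rw [pow_succ' p i]
  refine IsComm.of_sim (((Sim.refl _).blocks (sim_extend hp.1 (hp.1.pow i)
    (by rw [natDegree_pow, hp.2.2.1]; omega))).trans (sim_one_extend _ _ _ _)) ?_
  have hgm : (p ^ i).Monic := hp.1.pow i
  have hgd : (p ^ i).natDegree = 2 * i := by rw [natDegree_pow, hp.2.2.1, mul_comm]
  have hdp : ∀ n, dd (p ^ n) = (-1) ^ n := by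
    intro n
    induction n with
    | zero => simp [dd]
    | succ n ih => rw [pow_succ, dd_mul (hp.1.pow n) hp.1, ih, hp.2.2.2, pow_succ]
  have hg0 : (p ^ i).coeff 0 ≠ 0 := by
    rw [coeff_zero_eq_eval_zero, eval_pow, ← coeff_zero_eq_eval_zero]
    exact pow_ne_zero _ hp.blkish.2.1
  have three : (3 : F3[X]) = 0 := by
    rw [show (3 : F3[X]) = C 3 from (map_ofNat _ 3).symm, show (3 : F3) = 0 from rfl, map_zero]
  set f : F3[X] := cpoly (![2, 1] : Fin 2 → F3) with hfdef
  set e : F3[X] := X - C (-1) with hedef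
  have hf : f = X ^ 2 + (2 + X) := by simp [hfdef, cpoly, Fin.sum_univ_two, map_ofNat]
  have he : e = X + 1 := by rw [hedef, map_neg, map_one, sub_neg_eq_add]
  have hfm : f.Monic := cpoly_monic _
  have hem : e.Monic := monic_X_sub_C _
  have hfd : f.natDegree = 2 := cpoly_natDegree _
  have hf0 : f.coeff 0 = 2 := by
    rw [coeff_zero_eq_eval_zero, hfdef, cpoly_eval]; simp [Fin.sum_univ_two]
  obtain ⟨r, hr⟩ : ∃ r, 2 * i = r + 3 ∧ Odd r := ⟨2 * i - 3, by omega, i - 2, by omega⟩
  have hee : ∀ n, dd (e ^ n) = (-1) ^ n := by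
    intro n
    induction n with
    | zero => simp [dd]
    | succ n ih => rw [pow_succ, dd_mul (hem.pow n) hem, ih, hedef, dd_X_sub_C, pow_succ]
  have hhd : (e ^ r * f).natDegree = r + 2 := by
    rw [(hem.pow r).natDegree_mul hfm, natDegree_pow, hedef, natDegree_X_sub_C, hfd, mul_one]
  have hh0 : (e ^ r * f).coeff 0 ≠ 0 := by
    rw [mul_coeff_zero, coeff_zero_eq_eval_zero, eval_pow, hf0]
    refine mul_ne_zero (pow_ne_zero _ ?_) (by decide)
    rw [hedef, eval_sub, eval_X, eval_C]; decide
  have hhdd : dd (e ^ r * f) = 1 := by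
    rw [dd_mul (hem.pow r) hfm, hee, hr.2.neg_one_pow, dd_deg_two hfd, hf0]; decide
  have hh1 : (e ^ r * f).eval 1 ≠ 0 := by
    rw [eval_mul, eval_pow]
    refine mul_ne_zero (pow_ne_zero _ ?_) ?_
    · rw [hedef, eval_sub, eval_X, eval_C]; decide
    · rw [hfdef, cpoly_eval]; simp [Fin.sum_univ_two]; decide
  have hq : q4 = X ^ 4 + X ^ 3 + 2 * X + 1 := by rw [q4, map_ofNat]
  have cf : IsCoprime q4 f := by
    refine ⟨2 * X + 1, X ^ 3 + 2 * X ^ 2 + X, ?_⟩
    rw [hq, hf]
    linear_combination (X ^ 5 + 2 * X ^ 4 + 2 * X ^ 3 + 3 * X ^ 2 + 2 * X) * three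
  have ce : IsCoprime q4 e := by
    refine ⟨-1, X ^ 3 + 2, ?_⟩
    rw [hq, he]
    ring
  have c1 : IsCoprime q4 (X - C (1 : F3)) := by
    refine ((irreducible_X_sub_C _).coprime_iff_not_dvd.2 fun hd => ?_).symm
    have := dvd_iff_isRoot.1 hd
    rw [hq, IsRoot] at this
    simp at this
    revert this; decide
  exact isComm_extend_link (bad_frame hp).1 hgm hg0 (by rw [hdp, hi.neg_one_pow]) (((hem.pow r).mul hfm))
    (by rw [hhd, hgd]; omega) (by rw [hhd]; omega) hh0 hhdd hh1 ((ce.pow_right).mul_right cf) c1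

theorem good_small_three (L : List F3[X]) (hL : ∀ g ∈ L, PP g) (hprod : (L.map dd).prod = 1)
    (hn : 3 ≤ sz L) : Good L := by
  classical
  set B := L.filter (fun g => decide (Bad g)) with hBdef
  set R := L.filter (fun g => !decide (Bad g)) with hRdef
  have hperm : L.Perm (B ++ R) := (List.filter_append_perm _ L).symm
  have hB : ∀ g ∈ B, Bad g := fun g hg => by simpa using (List.mem_filter.1 hg).2
  have hR : ∀ g ∈ R, PP g ∧ ¬ Bad g := fun g hg =>
    ⟨hL g (List.mem_filter.1 hg).1, by simpa using (List.mem_filter.1 hg).2⟩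
  have hBp : (B.map dd).prod = (-1) ^ B.length := by
    rw [← List.prod_replicate]
    congr 1
    exact List.eq_replicate_iff.2 ⟨by simp, fun x hx => by
      obtain ⟨g, hg, rfl⟩ := List.mem_map.1 hx
      exact (hB g hg).2.2.2⟩
  rw [(hperm.map dd).prod_eq, List.map_append, List.prod_append, hBp] at hprod
  refine Good.perm hperm ?_
  rcases Nat.even_or_odd' B.length with ⟨k, hk | hk⟩
  · rw [hk, pow_mul, neg_one_sq, one_pow, one_mul] at hprod
    obtain hg | ⟨J, hJR, hJ2, hJd, hJi⟩ := good_ok_three R hR hprod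
    · exact Good.append (good_bad_even k B hk hB) hg
    rcases k with _ | k
    · exfalso
      rw [List.length_eq_zero_iff.1 hk, hJR] at hperm
      have := (hperm.map natDegree).sum_eq
      rw [← sz_eq_sum] at this
      simp [hJ2] at this
      omega
    obtain ⟨p, p', B', hBeq⟩ : ∃ p p' B', B = p :: p' :: B' := by
      rcases hcase : B with _ | ⟨p, _ | ⟨p', B'⟩⟩ <;> rw [hcase] at hk <;> simp at hk
      · omega
      · exact ⟨p, p', B', rfl⟩
    rw [hBeq] at hB hk ⊢
    have bp := hB p List.mem_cons_self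
    have bp' := hB p' (by simp)
    have hJ := hR J (by rw [hJR]; simp)
    rw [hJR]
    refine Good.perm (M := [p, p', J] ++ B') ?_ (Good.append ?_
      (good_bad_even k B' (by simp at hk; omega) fun x hx => hB x (by simp [hx])))
    · exact ((List.perm_append_singleton J B').cons p').cons p
    by_cases he : p = p'
    · subst he
      exact StepL.good (s := 1) (((bad_frame bp).2.2.append
        (step_quad_three hJ.1.blkish hJ2 hJd one_ne_zero)).of_eq rfl rfl (by decide))
    · refine Good.merge bp.1 bp'.1 (bp.coprime bp' he) (good_big_three (bp.blkish.mul bp'.blkish)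
        (by rw [bp.1.natDegree_mul bp'.1, bp.2.2.1, bp'.2.2.1]; omega) (by simp [hJ.1, hJ.2]) ?_)
      simp [dd_mul bp.1 bp'.1, bp.2.2.2, bp'.2.2.2, hJd]
  · rw [hk, pow_succ, pow_mul, neg_one_sq, one_pow, one_mul, neg_one_mul, neg_eq_iff_eq_neg] at hprod
    obtain ⟨p, B', hBeq⟩ : ∃ p B', B = p :: B' := by
      rcases hcase : B with _ | ⟨p, B'⟩
      · rw [hcase] at hk; simp at hk
      · exact ⟨p, B', rfl⟩
    rw [hBeq] at hB hk ⊢
    have bp := hB p List.mem_cons_self
    refine Good.perm (M := B' ++ (p :: R)) List.perm_middle.symm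
      (Good.append (good_bad_even k B' (by simp at hk; omega) fun x hx => hB x (by simp [hx])) ?_)
    by_cases hco : ∃ g ∈ R, IsCoprime p g
    · obtain ⟨g, hg, hc⟩ := hco
      have bg := (hR g hg).1.blkish
      refine Good.perm ((List.perm_cons_erase hg).cons p) (Good.merge bp.1 bg.1 hc
        (good_big_three (bp.blkish.mul bg) (by rw [bp.1.natDegree_mul bg.1, bp.2.2.1]; have := bg.2.2; omega)
          (fun f hf => hR f (List.mem_of_mem_erase hf)) ?_))
      rw [((List.perm_cons_erase hg).map dd).prod_eq, List.map_cons, List.prod_cons] at hprod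
      rw [List.map_cons, List.prod_cons, dd_mul bp.1 bg.1, bp.2.2.2, mul_assoc, hprod]
      ring
    push_neg at hco
    have hpow : ∀ g ∈ R, ∃ j, 2 ≤ j ∧ g = p ^ j := fun g hg => by
      obtain ⟨⟨-, q, j, hq, hqi, hj, rfl⟩, hgb⟩ := hR g hg
      have hqp : p = q := by
        by_contra hne
        exact hco _ hg (((bp.2.1.coprime_iff_not_dvd).2 fun hd =>
          hne (eq_of_monic_of_associated bp.1 hq (bp.2.1.associated_of_dvd hqi hd))).pow_right)
      subst hqp
      refine ⟨j, ?_, rfl⟩
      rcases (show j = 1 ∨ 2 ≤ j by omega) with rfl | h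
      · exact absurd (by rwa [pow_one]) hgb
      · exact h
    have hdp : ∀ n, dd (p ^ n) = (-1) ^ n := by
      intro n
      induction n with
      | zero => simp [dd]
      | succ n ih => rw [pow_succ, dd_mul (bp.1.pow n) bp.1, ih, bp.2.2.2, pow_succ]
    obtain ⟨g, hg, j, hgj, hjo⟩ : ∃ g ∈ R, ∃ j, g = p ^ j ∧ Odd j := by
      by_contra hne
      push_neg at hne
      have : (R.map dd).prod = 1 := List.prod_eq_one fun x hx => by
        obtain ⟨g, hg, rfl⟩ := List.mem_map.1 hx
        obtain ⟨j, -, rfl⟩ := hpow g hg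
        rw [hdp, (Nat.not_odd_iff_even.1 (hne _ hg j rfl)).neg_one_pow]
      rw [this] at hprod
      exact absurd hprod (by decide)
    obtain ⟨j', hj2, hj'⟩ := hpow g hg
    have hjj : j = j' := by
      have := congrArg natDegree (hgj.symm.trans hj')
      rw [natDegree_pow, natDegree_pow, bp.2.2.1] at this
      omega
    refine Good.perm ((List.perm_cons_erase hg).cons p) (Good.append (L := [p, g]) ?_ ?_)
    · rw [hgj]
      refine good_bad_power bp hjo ?_
      rcases hjo with ⟨r, hr⟩
      omega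
    · have hrest : ((R.erase g).map dd).prod = 1 := by
        rw [((List.perm_cons_erase hg).map dd).prod_eq, List.map_cons, List.prod_cons, hgj, hdp,
          hjo.neg_one_pow, neg_one_mul, neg_inj] at hprod
        exact hgj ▸ hprod
      rcases hrest' : R.erase g with _ | ⟨f, T⟩
      · exact Good.nil
      · rw [hrest'] at hrest
        have hfR : ∀ x ∈ f :: T, x ∈ R := fun x hx => List.mem_of_mem_erase (hrest' ▸ hx)
        obtain ⟨i, hi, rfl⟩ := hpow f (hfR f List.mem_cons_self)
        exact good_big_three (hR _ (hfR _ List.mem_cons_self)).1.blkish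
          (by rw [natDegree_pow, bp.2.2.1]; omega) (fun x hx => hR x (hfR x (List.mem_cons_of_mem _ hx))) hrest

end CfsgLib.Ore
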