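import Cfsg.Agent.Lib.Ore.SmallTwo
import Cfsg.Agent.Lib.Ore.SmallThree

/-!
# Every element of the special linear group is a commutator
-/

set_option autoImplicit false

open Matrix Polynomial

namespace CfsgLib.Ore

universe u

variable {F : Type u} [Field F]

/-- transport a result from a prime field -/
theorem isComm_of_prime_field [Fintype F] (p : ℕ) [Fact p.Prime] (hp : Fintype.card F = p) {n : ℕ}
    (h : ∀ B : Matrix (Fin n) (Fin n) (ZMod p), B.det = 1 → IsComm B) (A : Matrix (Fin n) (Fin n) F)
    (hA : A.det = 1) : IsComm A := by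
  haveI : CharP F p := charP_of_card_eq_prime hp
  let f : ZMod p →+* F := ZMod.castHom dvd_rfl F
  have hf : Function.Bijective f := (Fintype.bijective_iff_injective_and_card f).2
    ⟨f.injective, by rw [ZMod.card, hp]⟩
  let e := RingEquiv.ofBijective f hf
  have hB : (A.map e.symm).map f = A := by
    ext i j
    exact e.apply_symm_apply (A i j)
  rw [← hB]
  refine (h _ ?_).map f
  rw [← RingEquiv.mapMatrix_apply, ← RingEquiv.map_det, hA, map_one]

theorem isComm_of_det_one [Fintype F] {n : ℕ} (hn : 2 ≤ n) (hex : n = 2 → 4 ≤ Fintype.card F)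
    (A : Matrix (Fin n) (Fin n) F) (hA : A.det = 1) : IsComm A := by
  by_cases h4 : 4 ≤ Fintype.card F
  · obtain ⟨L, hs, hL, hp, -⟩ := exists_primary A (by rw [hA]; exact one_ne_zero)
    exact IsComm.of_sim hs (good_large h4 L hL (hp.trans hA))
  have hn3 : 3 ≤ n := by
    rcases Nat.lt_or_ge n 3 with h | h
    · exact absurd (hex (by omega)) h4
    · exact h
  have hcard : 2 ≤ Fintype.card F := Fintype.one_lt_card
  rcases (show Fintype.card F = 2 ∨ Fintype.card F = 3 by omega) with h | h
  · refine isComm_of_prime_field 2 h (fun B hB => ?_) A hA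
    obtain ⟨L, hs, hL, -, hsz⟩ := exists_primary B (by rw [hB]; exact one_ne_zero)
    exact IsComm.of_sim hs (good_small_two L hL (by omega))
  · refine isComm_of_prime_field 3 h (fun B hB => ?_) A hA
    obtain ⟨L, hs, hL, hp, hsz⟩ := exists_primary B (by rw [hB]; exact one_ne_zero)
    exact IsComm.of_sim hs (good_small_three L hL (hp.trans hB) (by omega))

/-- Ore's property of the special linear groups -/
theorem exists_commutator [Fintype F] {n : ℕ} (hn : 2 ≤ n) (hex : n = 2 → 4 ≤ Fintype.card F)
    (g : Matrix.SpecialLinearGroup (Fin n) F) :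
    ∃ a b : Matrix.SpecialLinearGroup (Fin n) F, g = a * b * a⁻¹ * b⁻¹ := by
  obtain ⟨G, C, hG, hC, h⟩ := isComm_of_det_one hn hex (g : Matrix (Fin n) (Fin n) F) g.2
  let a : Matrix.SpecialLinearGroup (Fin n) F := ⟨G, hG⟩
  let b : Matrix.SpecialLinearGroup (Fin n) F := ⟨C, hC⟩
  have hab : g * b * a = a * b := Subtype.ext h
  exact ⟨a, b, eq_mul_inv_of_mul_eq (eq_mul_inv_of_mul_eq hab)⟩

end CfsgLib.Ore
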