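import Cfsg.Agent.Lib.Ore.Chain

/-!
# Reduction of primary lists to a few shapes
-/

set_option autoImplicit false

open Matrix Polynomial

namespace CfsgLib.Ore

universe u

variable {F : Type u} [Field F]

theorem coprime_linear {a b : F} (h : a ≠ b) : IsCoprime (X - C a) (X - C b) :=
  (irreducible_X_sub_C a).coprime_iff_not_dvd.2 fun hd => h (by
    have := dvd_iff_isRoot.1 hd
    simpa [sub_eq_zero] using this)

theorem PP.linear {g : F[X]} (hg : PP g) (h1 : g.natDegree = 1) : g = X - C (dd g) := by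
  have := hg.monic.eq_X_add_C h1
  rw [dd, h1]
  conv_lhs => rw [this]
  simp

theorem eq_replicate_map_X_sub_C (L : List F[X]) (h : ∀ g ∈ L, PP g ∧ g.natDegree = 1) :
    L = (L.map dd).map fun a => X - C a := by
  rw [List.map_map]
  conv_lhs => rw [← List.map_id L]
  exact List.map_congr_left fun g hg => (h g hg).1.linear (h g hg).2

theorem perm_replicate_filter {γ : Type*} [DecidableEq γ] (L : List γ) (α β : γ) (h : ∀ x ∈ L, x = α ∨ x = β) :
    L.Perm (List.replicate (L.filter (fun x => decide (x = α))).length α ++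
      List.replicate (L.filter (fun x => !decide (x = α))).length β) := by
  have h1 : L.filter (fun x => decide (x = α)) = List.replicate (L.filter (fun x => decide (x = α))).length α :=
    List.eq_replicate_of_mem fun x hx => by simpa using (List.mem_filter.1 hx).2
  have h2 : L.filter (fun x => !decide (x = α)) = List.replicate (L.filter (fun x => !decide (x = α))).length β :=
    List.eq_replicate_of_mem fun x hx => by
      obtain ⟨hx1, hx2⟩ := List.mem_filter.1 hx
      exact (h x hx1).resolve_left (by simpa using hx2)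
  rw [← h1, ← h2]
  exact (List.filter_append_perm _ L).symm

/-- lists of linear blocks with at most two different roots -/
theorem good_linear_two [Finite F] (L : List F[X]) (h : ∀ g ∈ L, PP g ∧ g.natDegree = 1) {α β : F}
    (hv : ∀ g ∈ L, dd g = α ∨ dd g = β) (hprod : (L.map dd).prod = 1) : Good L := by
  classical
  rcases L with _ | ⟨g, L⟩
  · exact Good.nil
  rw [eq_replicate_map_X_sub_C _ h]
  have hv' : ∀ x ∈ (g :: L).map dd, x = α ∨ x = β := fun x hx => by
    obtain ⟨f, hf, rfl⟩ := List.mem_map.1 hx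
    exact hv f hf
  have hne : ∀ x ∈ (g :: L).map dd, x ≠ 0 := fun x hx => by
    obtain ⟨f, hf, rfl⟩ := List.mem_map.1 hx
    exact dd_ne_zero (h f hf).1.1
  -- `γ` is a value that occurs, `δ` the other one
  obtain ⟨γ, δ, hγ, hmem, hδ⟩ : ∃ γ δ, (∀ x ∈ (g :: L).map dd, x = γ ∨ x = δ) ∧
      γ ∈ (g :: L).map dd ∧ δ ≠ 0 := by
    have hg : dd g ∈ (g :: L).map dd := List.mem_map.2 ⟨g, List.mem_cons_self, rfl⟩
    by_cases hall : ∀ x ∈ (g :: L).map dd, x = dd g
    · exact ⟨dd g, dd g, fun x hx => Or.inl (hall x hx), hg, hne _ hg⟩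
    · push_neg at hall
      obtain ⟨y, hy, hyne⟩ := hall
      refine ⟨dd g, y, fun x hx => ?_, hg, hne y hy⟩
      rcases hv' x hx with e1 | e1 <;> rcases hv' _ hg with e2 | e2 <;> rcases hv' y hy with e3 | e3 <;>
        first
          | exact Or.inl (e1.trans e2.symm)
          | exact Or.inr (e1.trans e3.symm)
          | exact absurd (e3.trans e2.symm) hyne
  have hp := perm_replicate_filter _ γ δ hγ
  refine Good.perm (hp.map _) (good_diag (hne _ hmem) hδ ?_ ?_)
  · rw [← Nat.pos_iff_ne_zero, List.length_pos_iff_exists_mem]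
    exact ⟨γ, List.mem_filter.2 ⟨hmem, by simp⟩⟩
  · have := hp.prod_eq
    rw [List.prod_append, List.prod_replicate, List.prod_replicate, hprod] at this
    exact this.symm

/-- a primary list merges into a large block, or has one of four shapes -/
theorem shapes (L : List F[X]) (hL : ∀ g ∈ L, PP g) (hL0 : L ≠ []) :
    (∃ g ∈ L, 3 ≤ g.natDegree) ∨
    (∃ g h R, L.Perm (g :: h :: R) ∧ IsCoprime g h ∧ 3 ≤ g.natDegree + h.natDegree) ∨
    (∃ g1 g2 g3 R, L.Perm (g1 :: g2 :: g3 :: R) ∧ g1.natDegree = 1 ∧ g2.natDegree = 1 ∧ g3.natDegree = 1 ∧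
      IsCoprime g1 g2 ∧ IsCoprime g1 g3 ∧ IsCoprime g2 g3) ∨
    (∃ (p : F[X]) (k : ℕ), p.Monic ∧ Irreducible p ∧ p.natDegree = 2 ∧ L = List.replicate (k + 1) p) ∨
    (∃ (α : F) (k s : ℕ), α ≠ 0 ∧
      L.Perm (List.replicate (k + 1) ((X - C α) ^ 2) ++ List.replicate s (X - C α))) ∨
    ((∀ g ∈ L, g.natDegree = 1) ∧ ∃ α β, ∀ g ∈ L, dd g = α ∨ dd g = β) := by
  classical
  by_cases h3 : ∃ g ∈ L, 3 ≤ g.natDegree
  · exact Or.inl h3
  push_neg at h3
  by_cases h2 : ∃ g ∈ L, g.natDegree = 2
  · obtain ⟨g, hg, hgd⟩ := h2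
    by_cases hco : ∃ h ∈ L, IsCoprime g h
    · obtain ⟨h, hh, hc⟩ := hco
      have hne : h ≠ g := by
        rintro rfl
        have hu : IsUnit h := isCoprime_self.1 hc
        exact absurd (natDegree_eq_zero_of_isUnit hu) (by omega)
      refine Or.inr (Or.inl ⟨g, h, (L.erase g).erase h, ?_, hc, by have := (hL h hh).deg_pos; omega⟩)
      exact (List.perm_cons_erase hg).trans ((List.perm_cons_erase ((List.mem_erase_of_ne hne).2 hh)).cons g)
    · push_neg at hco
      obtain ⟨hg0, p, k, hp, hi, hk, hgp⟩ := hL g hg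
      have hpk : ∀ h ∈ L, ∃ l, 0 < l ∧ h = p ^ l := by
        intro h hh
        obtain hc | ⟨q, k', l, hq, hqi, hk', hl, e1, e2⟩ := (hL g hg).coprime_or (hL h hh)
        · exact absurd hc (hco h hh)
        · refine ⟨l, hl, ?_⟩
          have : p = q := by
            have hd : p ∣ q ^ k' := e1 ▸ hgp ▸ dvd_pow_self p hk.ne'
            exact eq_of_monic_of_associated hp hq (hi.associated_of_dvd hqi (hi.prime.dvd_of_dvd_pow hd))
          rw [this]; exact e2
      have hdeg : k * p.natDegree = 2 := by rw [← natDegree_pow, ← hgp, hgd]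
      have hpd := hi.natDegree_pos
      have hp2 : p.natDegree ≤ 2 := hdeg ▸ Nat.le_mul_of_pos_left _ hk
      rcases Nat.lt_or_ge p.natDegree 2 with h1 | h1
      · -- `p` linear
        have hp1 : p.natDegree = 1 := by omega
        have hk2 : k = 2 := by rw [hp1, mul_one] at hdeg; exact hdeg
        obtain ⟨α, rfl⟩ : ∃ α, p = X - C α := ⟨-p.coeff 0, by
          conv_lhs => rw [hp.eq_X_add_C hp1]
          simp⟩
        have hall : ∀ h ∈ L, h = (X - C α) ^ 2 ∨ h = X - C α := fun h hh => by
          obtain ⟨l, hl, rfl⟩ := hpk h hh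
          have := h3 _ hh
          rw [natDegree_pow, hp1] at this
          obtain rfl | rfl : l = 1 ∨ l = 2 := by omega
          · exact Or.inr (pow_one _)
          · exact Or.inl rfl
        have hperm := perm_replicate_filter L _ _ hall
        have hpos : 0 < (L.filter fun x => decide (x = (X - C α) ^ 2)).length :=
          List.length_pos_iff_exists_mem.2 ⟨g, List.mem_filter.2 ⟨hg, by simp [hgp, hk2]⟩⟩
        refine Or.inr (Or.inr (Or.inr (Or.inr (Or.inl ⟨α, (L.filter fun x => decide (x = (X - C α) ^ 2)).length - 1,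
          (L.filter fun x => !decide (x = (X - C α) ^ 2)).length, ?_, ?_⟩))))
        · intro h0
          subst h0
          rw [hgp, hk2] at hg0
          simp at hg0
        · rwa [Nat.sub_add_cancel hpos]
      · have hk1 : k = 1 := by nlinarith
        have hp2' : p.natDegree = 2 := by omega
        refine Or.inr (Or.inr (Or.inr (Or.inl ⟨p, L.length - 1, hp, hi, hp2', ?_⟩)))
        rw [Nat.sub_add_cancel (List.length_pos_of_ne_nil hL0)]
        refine List.eq_replicate_of_mem fun h hh => ?_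
        obtain ⟨l, hl, rfl⟩ := hpk h hh
        have := h3 _ hh
        rw [natDegree_pow, hp2'] at this
        rw [show l = 1 by omega, pow_one]
  · push_neg at h2
    have hd1 : ∀ g ∈ L, g.natDegree = 1 := fun g hg => by
      have := (hL g hg).deg_pos; have := h3 g hg; have := h2 g hg; omega
    by_cases hv : ∃ α β, ∀ g ∈ L, dd g = α ∨ dd g = β
    · exact Or.inr (Or.inr (Or.inr (Or.inr (Or.inr ⟨hd1, hv⟩))))
    push_neg at hv
    obtain ⟨g1, hg1⟩ := List.exists_mem_of_ne_nil L hL0
    obtain ⟨g2, hg2, hne2, -⟩ := hv (dd g1) (dd g1)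
    obtain ⟨g3, hg3, hne31, hne32⟩ := hv (dd g1) (dd g2)
    have hco : ∀ a ∈ L, ∀ b ∈ L, dd a ≠ dd b → IsCoprime a b := fun a ha b hb hne => by
      rw [(hL a ha).linear (hd1 a ha), (hL b hb).linear (hd1 b hb)]
      exact coprime_linear hne
    have hn21 : g2 ≠ g1 := fun e => hne2 (by rw [e])
    have hn31 : g3 ≠ g1 := fun e => hne31 (by rw [e])
    have hn32 : g3 ≠ g2 := fun e => hne32 (by rw [e])
    refine Or.inr (Or.inr (Or.inl ⟨g1, g2, g3, ((L.erase g1).erase g2).erase g3, ?_, hd1 g1 hg1, hd1 g2 hg2,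
      hd1 g3 hg3, hco g1 hg1 g2 hg2 (Ne.symm hne2), hco g1 hg1 g3 hg3 (Ne.symm hne31),
      hco g2 hg2 g3 hg3 (Ne.symm hne32)⟩))
    exact (List.perm_cons_erase hg1).trans (((List.perm_cons_erase ((List.mem_erase_of_ne hn21).2 hg2)).trans
      ((List.perm_cons_erase ((List.mem_erase_of_ne hn32).2 ((List.mem_erase_of_ne hn31).2 hg3))).cons g2)).cons g1)

end CfsgLib.Ore
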