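import Mathlib

/-!
# Similarity across index types, commutators, chains

`IsComm A` says that `A` is a commutator of two matrices of determinant one.
`Step A s t d` says that some `C` of determinant `d` is similar to `X ⊕ s` while `A * C` is similar
to `X ⊕ t`; such steps compose along direct sums, and a closed step of determinant one gives a
commutator.
-/

set_option autoImplicit false

open Matrix

namespace CfsgLib.Ore

variable {F : Type*} [Field F]
variable {α β γ δ κ : Type*} [Fintype α] [DecidableEq α] [Fintype β] [DecidableEq β]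
  [Fintype γ] [DecidableEq γ] [Fintype δ] [DecidableEq δ] [Fintype κ] [DecidableEq κ]

/-- similarity, the index types may differ -/
def Sim (A : Matrix α α F) (B : Matrix β β F) : Prop :=
  ∃ (P : Matrix α β F) (Q : Matrix β α F), P * Q = 1 ∧ Q * P = 1 ∧ A * P = P * B

/-- a commutator of two matrices of determinant one -/
def IsComm (A : Matrix α α F) : Prop :=
  ∃ G C : Matrix α α F, G.det = 1 ∧ C.det = 1 ∧ A * C * G = G * C

theorem Sim.refl (A : Matrix α α F) : Sim A A :=
  ⟨1, 1, one_mul _, one_mul _, by rw [mul_one, one_mul]⟩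

theorem Sim.of_eq {A B : Matrix α α F} (h : A = B) : Sim A B := h ▸ Sim.refl A

theorem Sim.symm {A : Matrix α α F} {B : Matrix β β F} (h : Sim A B) : Sim B A := by
  obtain ⟨P, Q, h1, h2, h3⟩ := h
  refine ⟨Q, P, h2, h1, ?_⟩
  calc B * Q = Q * (P * B) * Q := by rw [← Matrix.mul_assoc Q P B, h2, Matrix.one_mul]
    _ = Q * A * (P * Q) := by rw [← h3]; simp only [Matrix.mul_assoc]
    _ = Q * A := by rw [h1, Matrix.mul_one]

theorem Sim.trans {A : Matrix α α F} {B : Matrix β β F} {C : Matrix γ γ F} (h : Sim A B)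
    (h' : Sim B C) : Sim A C := by
  obtain ⟨P, Q, h1, h2, h3⟩ := h
  obtain ⟨P', Q', h1', h2', h3'⟩ := h'
  refine ⟨P * P', Q' * Q, ?_, ?_, ?_⟩
  · rw [Matrix.mul_assoc, ← Matrix.mul_assoc P' Q' Q, h1', Matrix.one_mul, h1]
  · rw [Matrix.mul_assoc, ← Matrix.mul_assoc Q P P', h2, Matrix.one_mul, h2']
  · rw [← Matrix.mul_assoc, h3, Matrix.mul_assoc, h3', Matrix.mul_assoc]

theorem Sim.reindex (A : Matrix α α F) (e : β ≃ α) : Sim A (A.submatrix e e) := by
  refine ⟨(1 : Matrix α α F).submatrix id e, (1 : Matrix α α F).submatrix e id, ?_, ?_, ?_⟩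
  · ext i j; simp [Matrix.mul_apply, Matrix.one_apply, ← Equiv.eq_symm_apply]
  · ext i j; simp [Matrix.mul_apply, Matrix.one_apply]
  · ext i j
    simp only [Matrix.mul_apply, Matrix.submatrix_apply, Matrix.one_apply, id, mul_ite, mul_one, mul_zero,
      ite_mul, one_mul, zero_mul]
    simp [← Equiv.symm_apply_eq]
    simp [Equiv.symm_apply_eq]

theorem det_conj_rect {P : Matrix α β F} {Q : Matrix β α F} (hPQ : P * Q = 1) (hQP : Q * P = 1)
    (D : Matrix β β F) : (P * D * Q).det = D.det := by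
  have h := Matrix.det_one_add_mul_comm P ((D - 1) * Q)
  rw [Matrix.sub_mul, Matrix.one_mul, Matrix.mul_sub, hPQ, ← Matrix.mul_assoc, add_sub_cancel,
    Matrix.sub_mul, Matrix.mul_assoc D Q P, hQP, Matrix.mul_one, add_sub_cancel] at h
  exact h

theorem Sim.det_eq {A : Matrix α α F} {B : Matrix β β F} (h : Sim A B) : A.det = B.det := by
  obtain ⟨P, Q, h1, h2, h3⟩ := h
  rw [← det_conj_rect h1 h2 B, ← h3, Matrix.mul_assoc, h1, Matrix.mul_one]

theorem Sim.blocks {A : Matrix α α F} {A' : Matrix β β F} {B : Matrix γ γ F} {B' : Matrix δ δ F}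
    (h : Sim A A') (h' : Sim B B') : Sim (fromBlocks A 0 0 B) (fromBlocks A' 0 0 B') := by
  obtain ⟨P, Q, h1, h2, h3⟩ := h
  obtain ⟨P', Q', h1', h2', h3'⟩ := h'
  refine ⟨fromBlocks P 0 0 P', fromBlocks Q 0 0 Q', ?_, ?_, ?_⟩ <;>
    rw [fromBlocks_multiply] <;> first | rw [fromBlocks_multiply] | skip
  · simp [h1, h1']
  · simp [h2, h2']
  · simp [h3, h3']

theorem IsComm.of_sim {A : Matrix α α F} {B : Matrix β β F} (h : Sim A B) (hB : IsComm B) :
    IsComm A := by
  obtain ⟨P, Q, h1, h2, h3⟩ := h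
  obtain ⟨G, C, hG, hC, hgc⟩ := hB
  refine ⟨P * G * Q, P * C * Q, by rw [det_conj_rect h1 h2, hG], by rw [det_conj_rect h1 h2, hC], ?_⟩
  calc A * (P * C * Q) * (P * G * Q) = A * P * C * (Q * P) * G * Q := by simp only [Matrix.mul_assoc]
    _ = P * (B * C * G) * Q := by rw [h2, h3, Matrix.mul_one]; simp only [Matrix.mul_assoc]
    _ = P * G * (Q * P) * C * Q := by rw [hgc, h2, Matrix.mul_one]; simp only [Matrix.mul_assoc]
    _ = P * G * Q * (P * C * Q) := by simp only [Matrix.mul_assoc]

theorem IsComm.one : IsComm (1 : Matrix α α F) :=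
  ⟨1, 1, det_one, det_one, by simp⟩

theorem IsComm.blocks {A : Matrix α α F} {B : Matrix β β F} (hA : IsComm A) (hB : IsComm B) :
    IsComm (fromBlocks A 0 0 B) := by
  obtain ⟨G, C, hG, hC, h⟩ := hA
  obtain ⟨G', C', hG', hC', h'⟩ := hB
  refine ⟨fromBlocks G 0 0 G', fromBlocks C 0 0 C', by simp [hG, hG'], by simp [hC, hC'], ?_⟩
  simp [fromBlocks_multiply, h, h']

/-- if the common normal form of `C` and `A * C` has centralisers of every determinant -/
theorem isComm_of_flex {A C : Matrix α α F} {S : Matrix β β F} (hC : Sim C S) (hAC : Sim (A * C) S)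
    (hd : C.det = 1) (hS : ∀ c : F, c ≠ 0 → ∃ D : Matrix β β F, S * D = D * S ∧ D.det = c) :
    IsComm A := by
  obtain ⟨P, Q, h1, h2, h3⟩ := hC
  obtain ⟨P', Q', h1', h2', h3'⟩ := hAC
  have hne : (P' * Q).det ≠ 0 := by
    intro h0
    have hi : P' * Q * (P * Q') = 1 := by
      rw [Matrix.mul_assoc, ← Matrix.mul_assoc Q P Q', h2, Matrix.one_mul, h1']
    have := congrArg Matrix.det hi
    rw [det_mul, h0, zero_mul, det_one] at this
    exact zero_ne_one this
  obtain ⟨D, hD, hdet⟩ := hS _ (inv_ne_zero hne)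
  refine ⟨P' * D * Q, C, ?_, hd, ?_⟩
  · have : P' * D * Q = P' * Q * (P * D * Q) := by
      rw [Matrix.mul_assoc P' Q, ← Matrix.mul_assoc Q, ← Matrix.mul_assoc Q P D, h2, Matrix.one_mul,
        Matrix.mul_assoc]
    rw [this, det_mul, det_conj_rect h1 h2, hdet, mul_inv_cancel₀ hne]
  · have hq : Q * C = S * Q := by
      calc Q * C = Q * (C * P) * Q := by rw [Matrix.mul_assoc, Matrix.mul_assoc C P Q, h1, Matrix.mul_one]
        _ = Q * P * S * Q := by rw [h3]; simp only [Matrix.mul_assoc]
        _ = S * Q := by rw [h2, Matrix.one_mul]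
    calc A * C * (P' * D * Q) = A * C * P' * D * Q := by simp only [Matrix.mul_assoc]
      _ = P' * (S * D) * Q := by rw [h3']; simp only [Matrix.mul_assoc]
      _ = P' * D * (S * Q) := by rw [hD]; simp only [Matrix.mul_assoc]
      _ = P' * D * Q * C := by rw [← hq]; simp only [Matrix.mul_assoc]

/-- `X ⊕ s` -/
def ext1 (X : Matrix κ κ F) (s : F) : Matrix (κ ⊕ Unit) (κ ⊕ Unit) F :=
  fromBlocks X 0 0 (diagonal fun _ => s)

theorem ext1_det (X : Matrix κ κ F) (s : F) : (ext1 X s).det = X.det * s := by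
  simp [ext1]

/-- one link of a chain -/
def Step (A : Matrix α α F) (s t d : F) : Prop :=
  ∃ (C : Matrix α α F) (k : ℕ) (X : Matrix (Fin k) (Fin k) F),
    Sim C (ext1 X s) ∧ Sim (A * C) (ext1 X t) ∧ C.det = d

theorem Step.mk' {A : Matrix α α F} {s t d : F} {C : Matrix α α F} {X : Matrix κ κ F}
    (h1 : Sim C (ext1 X s)) (h2 : Sim (A * C) (ext1 X t)) (h3 : C.det = d) : Step A s t d := by
  have e : ∀ u : F, Sim (ext1 X u)
      (ext1 (X.submatrix (Fintype.equivFin κ).symm (Fintype.equivFin κ).symm) u) :=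
    fun u => Sim.blocks (Sim.reindex X _) (Sim.refl _)
  exact ⟨C, _, _, h1.trans (e s), h2.trans (e t), h3⟩

theorem Step.of_sim {A : Matrix α α F} {B : Matrix β β F} (h : Sim A B) {s t d : F}
    (hB : Step B s t d) : Step A s t d := by
  obtain ⟨P, Q, h1, h2, h3⟩ := h
  obtain ⟨C, k, X, hC, hBC, hd⟩ := hB
  have e : ∀ M : Matrix β β F, Sim (P * M * Q) M := fun M => ⟨P, Q, h1, h2, by
    rw [Matrix.mul_assoc _ Q P, h2, Matrix.mul_one]⟩
  refine ⟨P * C * Q, k, X, (e C).trans hC, ?_, by rw [det_conj_rect h1 h2, hd]⟩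
  have : A * (P * C * Q) = P * (B * C) * Q := by
    simp only [← Matrix.mul_assoc]; rw [h3]
  rw [this]
  exact (e _).trans hBC

theorem Step.append {A : Matrix α α F} {B : Matrix β β F} {s t u d d' : F} (hA : Step A s t d)
    (hB : Step B t u d') : Step (fromBlocks A 0 0 B) s u (d * d') := by
  obtain ⟨C, k, X, hC, hAC, hd⟩ := hA
  obtain ⟨C', k', X', hC', hBC, hd'⟩ := hB
  refine Step.mk' (C := fromBlocks C 0 0 C') (X := fromBlocks (fromBlocks X 0 0 X') 0 0 (diagonal fun _ : Unit => t))
    ?_ ?_ (by simp [hd, hd'])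
  · refine (hC.blocks hC').trans ((Sim.reindex _ ?_).trans (Sim.of_eq ?_))
    · exact
        { toFun := fun i => match i with
            | .inl (.inl (.inl a)) => .inl (.inl a)
            | .inl (.inl (.inr b)) => .inr (.inl b)
            | .inl (.inr _) => .inr (.inr ())
            | .inr _ => .inl (.inr ())
          invFun := fun i => match i with
            | .inl (.inl a) => .inl (.inl (.inl a))
            | .inr (.inl b) => .inl (.inl (.inr b))
            | .inr (.inr _) => .inl (.inr ())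
            | .inl (.inr _) => .inr ()
          left_inv := fun i => by rcases i with ((a | b) | ⟨⟩) | ⟨⟩ <;> rfl
          right_inv := fun i => by rcases i with (a | ⟨⟩) | (b | ⟨⟩) <;> rfl }
    · ext i j
      rcases i with ((a | b) | ⟨⟩) | ⟨⟩ <;> rcases j with ((c | e) | ⟨⟩) | ⟨⟩ <;> simp [ext1]
  · rw [fromBlocks_multiply]
    simp only [Matrix.mul_zero, Matrix.zero_mul, add_zero, zero_add]
    refine (hAC.blocks hBC).trans ((Sim.reindex _ ?_).trans (Sim.of_eq ?_))
    · exact
        { toFun := fun i => match i with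
            | .inl (.inl (.inl a)) => .inl (.inl a)
            | .inl (.inl (.inr b)) => .inr (.inl b)
            | .inl (.inr _) => .inl (.inr ())
            | .inr _ => .inr (.inr ())
          invFun := fun i => match i with
            | .inl (.inl a) => .inl (.inl (.inl a))
            | .inr (.inl b) => .inl (.inl (.inr b))
            | .inl (.inr _) => .inl (.inr ())
            | .inr (.inr _) => .inr ()
          left_inv := fun i => by rcases i with ((a | b) | ⟨⟩) | ⟨⟩ <;> rfl
          right_inv := fun i => by rcases i with (a | ⟨⟩) | (b | ⟨⟩) <;> rfl }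
    · ext i j
      rcases i with ((a | b) | ⟨⟩) | ⟨⟩ <;> rcases j with ((c | e) | ⟨⟩) | ⟨⟩ <;> simp [ext1]

/-- the trivial link on an empty index type -/
theorem Step.isComm {A : Matrix α α F} {s : F} (h : Step A s s 1) : IsComm A := by
  obtain ⟨C, k, X, hC, hAC, hd⟩ := h
  refine isComm_of_flex hC hAC hd fun c _ => ⟨fromBlocks 1 0 0 (diagonal fun _ => c), ?_, ?_⟩
  · simp [ext1, fromBlocks_multiply, mul_comm]
  · simp

end CfsgLib.Ore
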