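import Cfsg.Agent.Lib.Ore.Witness

/-!
# Preparations for the small fields
-/

set_option autoImplicit false

open Matrix Polynomial

namespace CfsgLib.Ore

universe u

variable {F : Type u} [Field F]

theorem blk_two (g h : F[X]) :
    Sim (blk [g, h]) (fromBlocks (comp (cof g)) 0 0 (comp (cof h))) :=
  (blk_cons g [h]).trans ((Sim.refl _).blocks (blk_single h))

theorem sim_cof {g : F[X]} (hg : g.Monic) {m : ℕ} (c : Fin m → F) (h : g = cpoly c) :
    Sim (comp (cof g)) (comp c) :=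
  comp_congr _ _ ((cpoly_cof hg).trans h)

theorem eq_cpoly_two {g : F[X]} (hg : g.Monic) (h2 : g.natDegree = 2) :
    g = cpoly ![g.coeff 0, g.coeff 1] := by
  conv_lhs => rw [hg.as_sum, h2]
  simp [cpoly, Finset.sum_range_succ, Fin.sum_univ_two]

/-- the link of a cyclic block with the common part exposed -/
theorem exists_linkL {g h : F[X]} (hg : g.Monic) (hg0 : g.coeff 0 ≠ 0) (hh : h.Monic)
    (hdeg : h.natDegree + 1 = g.natDegree) (hh1 : 1 ≤ h.natDegree) (hh0 : h.coeff 0 ≠ 0) {s : F}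
    (hs : s ≠ 0) (h1 : h.eval s ≠ 0) (h2 : h.eval (dd g * s) ≠ 0) :
    ∃ C, Sim C (ext1 (comp (cof h)) s) ∧ Sim (comp (cof g) * C) (ext1 (comp (cof h)) (dd g * s)) := by
  obtain ⟨m, hm⟩ : ∃ m, h.natDegree = m + 1 := ⟨h.natDegree - 1, by omega⟩
  let a : Fin (m + 2) → F := fun i => g.coeff i
  let c : Fin (m + 1) → F := fun i => h.coeff i
  have ha : cpoly a = g := by
    conv_rhs => rw [hg.as_sum, show g.natDegree = m + 2 by omega]
    rw [cpoly, ← Fin.sum_univ_eq_sum_range (fun i => C (g.coeff i) * X ^ i) (m + 2)]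
  have hc : cpoly c = h := by
    conv_rhs => rw [hh.as_sum, hm]
    rw [cpoly, ← Fin.sum_univ_eq_sum_range (fun i => C (h.coeff i) * X ^ i) (m + 1)]
  have hsim := sim_cof hg a ha.symm
  have hda : (comp a).det = dd g := by rw [← hsim.det_eq, det_comp_cof hg]
  obtain ⟨K, hK, hAK⟩ := exists_link a (by simpa [a] using hg0) c s (dd g * s) hs (by rw [hda])
    (by simpa [c] using hh0) (by rw [hc]; exact h1) (by rw [hc]; exact h2)
  have eC : ∀ t, Sim (ext1 (comp c) t) (ext1 (comp (cof h)) t) := fun t =>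
    (sim_cof hh c hc.symm).symm.blocks (Sim.refl _)
  obtain ⟨P, Q, h1', h2', h3'⟩ := hsim
  have econj : ∀ M : Matrix (Fin (m + 2)) (Fin (m + 2)) F, Sim (P * M * Q) M := fun M => ⟨P, Q, h1', h2', by
    rw [Matrix.mul_assoc _ Q P, h2', Matrix.mul_one]⟩
  refine ⟨P * K * Q, ((econj _).trans hK).trans (eC _), ?_⟩
  have : comp (cof g) * (P * K * Q) = P * (comp a * K) * Q := by
    simp only [← Matrix.mul_assoc]; rw [h3']
  rw [this]
  exact ((econj _).trans hAK).trans (eC _)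

/-- a link on an extension -/
theorem isComm_extend_link {α : Type*} [Fintype α] [DecidableEq α] {A1 : Matrix α α F} {q : F[X]}
    (hF : Frame A1 q) {g h : F[X]} {Z : Matrix α (Fin g.natDegree) F} (hg : g.Monic)
    (hg0 : g.coeff 0 ≠ 0) (hg1 : dd g = 1) (hh : h.Monic) (hdeg : h.natDegree + 1 = g.natDegree)
    (hh1 : 1 ≤ h.natDegree) (hh0 : h.coeff 0 ≠ 0) (hd : dd h = 1) (he : h.eval 1 ≠ 0)
    (hco : IsCoprime q h) (hco1 : IsCoprime q (X - C 1)) :
    IsComm (fromBlocks A1 Z 0 (comp (cof g))) := by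
  obtain ⟨K, hK, hAK⟩ := exists_linkL hg hg0 hh hdeg hh1 hh0 one_ne_zero he (by rwa [hg1, one_mul])
  rw [hg1, one_mul] at hAK
  refine isComm_extend hF hK hAK (isUnit_aeval_ext1 (f := h) ?_ hco hco1) ?_
  · have := aeval_comp (cof h)
    rwa [cpoly_cof hh] at this
  · rw [hK.det_eq, ext1_det, det_comp_cof hh, hd, one_mul]

end CfsgLib.Ore
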