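import Cfsg.Agent.Lib.Ore.SmallBase

/-!
# The field with two elements
-/

set_option autoImplicit false

open Matrix Polynomial

namespace CfsgLib.Ore

/-- the unipotent block -/
noncomputable def jj : (ZMod 2)[X] := (X - C 1) ^ 2

theorem dd_two {g : (ZMod 2)[X]} (h : g.coeff 0 ≠ 0) : dd g = 1 := by
  have : ∀ x : ZMod 2, x ≠ 0 → x = 1 := by decide
  exact this _ (dd_ne_zero h)

theorem good_big_two {g : (ZMod 2)[X]} (hg : Blkish g) (h3 : 3 ≤ g.natDegree) : Good [g] :=
  StepL.good (s := 1) ((knob hg h3 one_ne_zero one_ne_zero (Or.inl (dd_two hg.2.1))).of_eq rfl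
    (by rw [dd_two hg.2.1, one_mul]) rfl)

theorem eq_X_add_one {c : ZMod 2} : (X - C c : (ZMod 2)[X]) = X + C c := CharTwo.sub_eq_add _ _

theorem good_single_two {g : (ZMod 2)[X]} (hg : PP g) (hne : g ≠ jj) : Good [g] := by
  rcases Nat.lt_or_ge g.natDegree 3 with h | h
  · have := hg.deg_pos
    rcases (show g.natDegree = 1 ∨ g.natDegree = 2 by omega) with h1 | h2
    · exact StepL.good (s := 1) ((stepL_linear h1 1).of_eq rfl (by rw [dd_two hg.1, one_mul]) rfl)
    · have hc := eq_cpoly_two hg.monic h2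
      have h0 : g.coeff 0 = 1 := (show ∀ x : ZMod 2, x ≠ 0 → x = 1 by decide) _ hg.1
      rcases (show ∀ x : ZMod 2, x = 0 ∨ x = 1 by decide) (g.coeff 1) with h1 | h1
      · refine absurd ?_ hne
        rw [hc, h0, h1, jj, eq_X_add_one, CharTwo.add_sq]
        simp [cpoly, Fin.sum_univ_two]
      · rw [h0, h1] at hc
        exact IsComm.of_sim ((blk_single g).trans (sim_cof hg.monic _ hc)) wit_two_phi
  · exact good_big_two hg.blkish h

theorem good_noJ : ∀ L : List (ZMod 2)[X], (∀ g ∈ L, PP g ∧ g ≠ jj) → Good L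
  | [], _ => Good.nil
  | g :: L, h => Good.append (good_single_two (h g List.mem_cons_self).1 (h g List.mem_cons_self).2)
      (good_noJ L fun x hx => h x (List.mem_cons_of_mem _ hx))

theorem coprime_X_pow_two (k : ℕ) : IsCoprime (cpoly (![1, 1] : Fin 2 → ZMod 2)) (X ^ k) := by
  refine IsCoprime.pow_right ?_
  refine ⟨1, -(X + 1), ?_⟩
  simp [cpoly, Fin.sum_univ_two]
  ring

theorem exists_h_two (m : ℕ) (hm : 3 ≤ m) : ∃ h : (ZMod 2)[X], h.Monic ∧ h.natDegree = m ∧ h.coeff 0 ≠ 0 ∧
    h.eval 1 ≠ 0 ∧ IsCoprime (cpoly (![1, 1] : Fin 2 → ZMod 2)) h := by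
  set q := cpoly (![1, 1] : Fin 2 → ZMod 2) with hq
  have hq' : q = X ^ 2 + (1 + X) := by simp [hq, cpoly, Fin.sum_univ_two]
  have hred : ∀ n, q ∣ X ^ n - X ^ (n % 3) := fun n => by
    have h3 : (X : (ZMod 2)[X]) ^ 3 - 1 = q * (X - 1) := by rw [hq']; ring
    obtain ⟨r, hr⟩ := (Dvd.intro _ h3.symm).trans (sub_one_dvd_pow_sub_one (X ^ 3 : (ZMod 2)[X]) (n / 3))
    refine ⟨r * X ^ (n % 3), ?_⟩
    conv_lhs => arg 1; rw [← Nat.div_add_mod n 3, pow_add, pow_mul]
    linear_combination X ^ (n % 3) * hr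
  have two : (2 : (ZMod 2)[X]) = 0 := CharTwo.two_eq_zero
  have h01 : ∀ e, 1 ≤ e → e ≠ m → (X ^ m + X ^ e + 1 : (ZMod 2)[X]).coeff 0 ≠ 0 ∧
      (X ^ m + X ^ e + 1 : (ZMod 2)[X]).eval 1 ≠ 0 := fun e he _ => by
    constructor
    · simp [coeff_X_pow, show 0 ≠ m by omega, show 0 ≠ e by omega]
    · simp only [eval_add, eval_pow, eval_X, one_pow, eval_one]; decide
  have main : ∀ e k, 1 ≤ e → e < m → (X ^ (m % 3) + X ^ (e % 3) + 1 - X ^ k : (ZMod 2)[X]) = 0 →
      ∃ h : (ZMod 2)[X], h.Monic ∧ h.natDegree = m ∧ h.coeff 0 ≠ 0 ∧ h.eval 1 ≠ 0 ∧ IsCoprime q h := by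
    intro e k he hem hk
    have hdeg : (X ^ e + 1 : (ZMod 2)[X]).degree < (m : WithBot ℕ) :=
      lt_of_le_of_lt (degree_add_le _ _) (max_lt (by rw [degree_X_pow]; exact_mod_cast hem)
        (lt_of_le_of_lt degree_one_le (by exact_mod_cast (show 0 < m by omega))))
    refine ⟨X ^ m + X ^ e + 1, ?_, ?_, (h01 e he hem.ne).1, (h01 e he hem.ne).2, ?_⟩
    · rw [add_assoc]; exact monic_X_pow_add hdeg
    · refine natDegree_eq_of_degree_eq_some ?_
      rw [add_assoc, degree_add_eq_left_of_degree_lt (by rw [degree_X_pow]; exact hdeg), degree_X_pow]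
    · obtain ⟨a, ha⟩ := hred m
      obtain ⟨b, hb⟩ := hred e
      have : (X ^ m + X ^ e + 1 : (ZMod 2)[X]) = X ^ k + q * (a + b) := by linear_combination ha + hb + hk
      rw [this]
      exact (coprime_X_pow_two k).add_mul_left_right _
  rcases (show m % 3 = 0 ∨ m % 3 = 1 ∨ m % 3 = 2 by omega) with hm3 | hm3 | hm3
  · exact main 1 1 le_rfl (by omega) (by rw [hm3]; linear_combination two)
  · exact main 1 0 le_rfl (by omega) (by rw [hm3]; linear_combination X * two)
  · exact main 3 2 (by omega) (by omega) (by rw [hm3]; linear_combination two)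

theorem good_J_pow (l : ℕ) (hl : 3 ≤ l) : Good [jj, (X - C (1 : ZMod 2)) ^ l] := by
  set p := (X - C (1 : ZMod 2)) with hp
  have hpm : p.Monic := monic_X_sub_C _
  have hp1 : p.natDegree = 1 := natDegree_X_sub_C _
  have hpX : p = X + 1 := by rw [hp, eq_X_add_one, map_one]
  have hjm : jj.Monic := hpm.pow 2
  have hjc : jj = cpoly (![1, 0] : Fin 2 → ZMod 2) := by
    rw [jj, eq_X_add_one, CharTwo.add_sq]; simp [cpoly, Fin.sum_univ_two]
  have h34 : ∀ {m : ℕ} (c : Fin m → ZMod 2), p ^ l = cpoly c →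
      IsComm (fromBlocks (comp (![1, 0] : Fin 2 → ZMod 2)) 0 0 (comp c)) → Good [jj, p ^ l] := fun c hc hw =>
    IsComm.of_sim ((blk_two _ _).trans ((sim_cof hjm _ hjc).blocks (sim_cof (hpm.pow l) c hc))) hw
  rcases (show l = 3 ∨ l = 4 ∨ 5 ≤ l by omega) with rfl | rfl | h5
  · refine h34 _ ?_ wit_two_five
    rw [hpX, pow_succ, CharTwo.add_sq]
    simp [cpoly, Fin.sum_univ_three]
    ring
  · refine h34 _ ?_ wit_two_six
    rw [hpX, show (X + 1 : (ZMod 2)[X]) ^ 4 = ((X + 1) ^ 2) ^ 2 by ring, CharTwo.add_sq, CharTwo.add_sq]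
    simp [cpoly, Fin.sum_univ_succ]
    ring
  · obtain ⟨l', rfl⟩ : ∃ l', l = l' + 1 := ⟨l - 1, by omega⟩
    refine IsComm.of_sim (blk_two _ _) ?_
    rw [jj, sq, pow_succ' p l']
    refine IsComm.of_sim (((sim_extend hpm hpm (by omega)).blocks
      (sim_extend hpm (hpm.pow l') (by rw [natDegree_pow, hp1]; omega))).trans (sim_two_extend _ _ _ _ _ _)) ?_
    have hP : comp (cof p) = 1 := by
      ext i j
      have : i = j := Fin.ext (by have := i.2; have := j.2; omega)
      subst this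
      have hi := i.2
      simp [comp, cof, show (i : ℕ) = 0 by omega, hp, deg_one_sub]
    have hgm : (p ^ l').Monic := hpm.pow l'
    have hgd : (p ^ l').natDegree = l' := by rw [natDegree_pow, hp1, mul_one]
    have hg0 : (p ^ l').coeff 0 ≠ 0 := by
      rw [coeff_zero_eq_eval_zero, eval_pow, hp, eval_sub, eval_X, eval_C]
      exact pow_ne_zero _ (by decide)
    obtain ⟨h, hh, hhd, hh0, hh1, hco⟩ := exists_h_two (l' - 1) (by omega)
    obtain ⟨K, hK, hAK⟩ := exists_linkL hgm hg0 hh (by omega) (by omega) hh0 one_ne_zero hh1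
      (by rwa [dd_two hg0, one_mul])
    rw [dd_two hg0, one_mul] at hAK
    have hF : Frame (fromBlocks (comp (cof p)) 0 0 (comp (cof p))) (cpoly (![1, 1] : Fin 2 → ZMod 2)) := by
      rw [hP, fromBlocks_one]
      let e : Fin 2 ≃ Fin p.natDegree ⊕ Fin p.natDegree :=
        (finSumFinEquiv.symm : Fin (1 + 1) ≃ _).trans (Equiv.sumCongr (finCongr hp1.symm) (finCongr hp1.symm))
      refine Frame.of_sim ((Sim.reindex _ e).trans (Sim.of_eq (Matrix.submatrix_one_equiv e)))
        ⟨comp (![1, 1] : Fin 2 → ZMod 2), Sim.of_eq (one_mul _), ?_, aeval_comp _⟩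
      rw [det_comp]; decide
    have eK : Sim (fromBlocks (1 : Matrix (Fin p.natDegree) (Fin p.natDegree) (ZMod 2)) 0 0 (ext1 (comp (cof h)) 1))
        (ext1 (fromBlocks (1 : Matrix (Fin p.natDegree) (Fin p.natDegree) (ZMod 2)) 0 0 (comp (cof h))) 1) :=
      (sim_assoc _ _ _).symm
    rw [hP] at hF ⊢
    refine isComm_extend hF (C2 := fromBlocks 1 0 0 K) (((Sim.refl _).blocks hK).trans eK) ?_ ?_ ?_
    · rw [fromBlocks_multiply]
      simp only [Matrix.mul_zero, Matrix.zero_mul, add_zero, zero_add, Matrix.one_mul]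
      exact ((Sim.refl _).blocks hAK).trans eK
    · have hlin : IsCoprime (cpoly (![1, 1] : Fin 2 → ZMod 2)) (X - C 1) := by
        refine ((irreducible_X_sub_C _).coprime_iff_not_dvd.2 fun hd => ?_).symm
        have := dvd_iff_isRoot.1 hd
        rw [IsRoot, cpoly_eval] at this
        revert this; decide
      refine isUnit_aeval_ext1 (f := (X - C 1) * h) ?_ (hlin.mul_right hco) hlin
      rw [aeval_fromBlocks, map_mul, map_mul]
      have := aeval_comp (cof h)
      rw [cpoly_cof hh] at this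
      rw [this, Matrix.mul_zero, map_sub, aeval_X, aeval_C, map_one, sub_self, Matrix.zero_mul, fromBlocks_zero]
    · rw [det_fromBlocks_zero₂₁, det_one, one_mul, hK.det_eq, ext1_det, det_comp_cof hh, dd_two hh0, one_mul]

theorem good_small_two (L : List (ZMod 2)[X]) (hL : ∀ g ∈ L, PP g) (hn : 3 ≤ sz L) : Good L := by
  classical
  set R := L.filter (fun g => !decide (g = jj)) with hRdef
  have hperm : L.Perm (List.replicate (L.filter (fun g => decide (g = jj))).length jj ++ R) := by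
    have h1 : L.filter (fun g => decide (g = jj)) =
        List.replicate (L.filter (fun g => decide (g = jj))).length jj :=
      List.eq_replicate_of_mem fun x hx => by simpa using (List.mem_filter.1 hx).2
    rw [← h1]
    exact (List.filter_append_perm _ L).symm
  have hR : ∀ g ∈ R, PP g ∧ g ≠ jj := fun g hg => by
    obtain ⟨h1, h2⟩ := List.mem_filter.1 hg
    exact ⟨hL g h1, by simpa using h2⟩
  rcases (show ∀ j : ℕ, j = 0 ∨ j = 1 ∨ ∃ k, j = k + 2 from fun j => by
    rcases j with _ | _ | k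
    · exact Or.inl rfl
    · exact Or.inr (Or.inl rfl)
    · exact Or.inr (Or.inr ⟨k, rfl⟩)) (L.filter (fun g => decide (g = jj))).length with hj | hj | ⟨k, hj⟩ <;>
    rw [hj] at hperm <;> refine Good.perm hperm ?_
  · simpa using good_noJ R hR
  · simp only [List.replicate_one, List.singleton_append]
    obtain ⟨g, hgR⟩ : ∃ g, g ∈ R := by
      by_contra hne
      push_neg at hne
      rw [List.eq_nil_iff_forall_not_mem.2 hne] at hperm
      have := (hperm.map natDegree).sum_eq
      rw [← sz_eq_sum] at this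
      simp [jj, natDegree_pow, deg_one_sub] at this
      omega
    refine Good.perm ((List.perm_cons_erase hgR).cons jj) ?_
    refine Good.append (L := [jj, g]) ?_ (good_noJ _ fun x hx => hR x (List.mem_of_mem_erase hx))
    obtain ⟨hgp, hgne⟩ := hR g hgR
    obtain ⟨-, q, l, hq, hqi, hl, rfl⟩ := id hgp
    by_cases hq1 : q = X - C 1
    · subst hq1
      rcases (show l = 1 ∨ l = 2 ∨ 3 ≤ l by omega) with rfl | rfl | h3
      · rw [pow_one]; exact good_jordan_fix
      · exact absurd rfl hgne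
      · exact good_J_pow l h3
    · have hco : IsCoprime jj (q ^ l) := by
        refine (((irreducible_X_sub_C (1 : ZMod 2)).coprime_iff_not_dvd.2 fun hd => hq1 ?_).pow_left).pow_right
        exact (eq_of_monic_of_associated (monic_X_sub_C _) hq
          ((irreducible_X_sub_C _).associated_of_dvd hqi hd)).symm
      have hjb : Blkish jj := ⟨(monic_X_sub_C _).pow 2, by simp [jj, sq, mul_coeff_zero], by simp [jj, deg_one_sub]⟩
      refine Good.merge hjb.1 hgp.monic hco (good_big_two (hjb.mul hgp.blkish) ?_)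
      rw [hjb.1.natDegree_mul hgp.monic, jj, natDegree_pow, natDegree_X_sub_C]
      have := hgp.deg_pos
      omega
  · exact Good.append (good_jordan k) (good_noJ R hR)

end CfsgLib.Ore
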