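import Cfsg.Agent.Lib.Ore.Extend

/-!
# Change of field
-/

set_option autoImplicit false

open Matrix Polynomial

namespace CfsgLib.Ore

universe u v

variable {K : Type v} [Field K] {F : Type u} [Field F] (f : K →+* F)
variable {α β : Type*} [Fintype α] [DecidableEq α] [Fintype β] [DecidableEq β]

theorem IsComm.map {A : Matrix α α K} (h : IsComm A) : IsComm (A.map f) := by
  obtain ⟨G, C, hG, hC, hgc⟩ := h
  refine ⟨G.map f, C.map f, ?_, ?_, ?_⟩
  · rw [← RingHom.mapMatrix_apply, ← RingHom.map_det, hG, map_one]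
  · rw [← RingHom.mapMatrix_apply, ← RingHom.map_det, hC, map_one]
  · simp only [← RingHom.mapMatrix_apply, ← map_mul, hgc]

theorem Sim.map {A : Matrix α α K} {B : Matrix β β K} (h : Sim A B) : Sim (A.map f) (B.map f) := by
  obtain ⟨P, Q, h1, h2, h3⟩ := h
  exact ⟨P.map f, Q.map f, by rw [← Matrix.map_mul, h1, Matrix.map_one _ (map_zero f) (map_one f)],
    by rw [← Matrix.map_mul, h2, Matrix.map_one _ (map_zero f) (map_one f)],
    by rw [← Matrix.map_mul, h3, Matrix.map_mul]⟩

theorem Frame.map {A : Matrix α α K} {q : K[X]} (h : Frame A q) : Frame (A.map f) (q.map f) := by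
  obtain ⟨C, hC, hd, hq⟩ := h
  refine ⟨C.map f, ?_, ?_, ?_⟩
  · rw [← Matrix.map_mul]; exact hC.map f
  · rw [← RingHom.mapMatrix_apply, ← RingHom.map_det, hd, map_one]
  · have h := congrArg (fun M : Matrix α α K => f.mapMatrix M) hq
    simp only [map_zero] at h
    rw [aeval_def, eval₂_map, ← h, aeval_def, hom_eval₂]
    congr 1
    ext x i j
    simp [Matrix.algebraMap_matrix_apply, apply_ite f]

theorem Step.map {A : Matrix α α K} {s t d : K} (h : Step A s t d) : Step (A.map f) (f s) (f t) (f d) := by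
  obtain ⟨C, k, X, hC, hAC, hd⟩ := h
  have e : ∀ w : K, (ext1 X w).map f = ext1 (X.map f) (f w) := fun w => by
    simp [ext1, fromBlocks_map, Matrix.map_zero _ (map_zero f), diagonal_map (map_zero f)]
  refine ⟨C.map f, k, X.map f, ?_, ?_, ?_⟩
  · rw [← e]; exact hC.map f
  · rw [← e, ← Matrix.map_mul]; exact hAC.map f
  · rw [← RingHom.mapMatrix_apply, ← RingHom.map_det, hd]

theorem map_comp {m : ℕ} (c : Fin m → K) : (comp c).map f = comp (f ∘ c) := by
  ext i j
  simp only [comp, Matrix.map_apply, Matrix.of_apply, Function.comp_apply]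
  split_ifs <;> simp

end CfsgLib.Ore
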