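import Cfsg.Agent.Lib.Ore.Transfer

/-!
# Explicit matrices over the fields with two and three elements
-/

set_option autoImplicit false

open Matrix Polynomial

namespace CfsgLib.Ore

/-- over two elements every invertible matrix has determinant one -/
theorem isComm_two {α : Type*} [Fintype α] [DecidableEq α] {A : Matrix α α (ZMod 2)} (G Gi C Ci : Matrix α α (ZMod 2))
    (h1 : G * Gi = 1) (h2 : C * Ci = 1) (h3 : A * C * G = G * C) : IsComm A := by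
  have key : ∀ x y : ZMod 2, x * y = 1 → x = 1 := by decide
  exact ⟨G, C, key _ Gi.det (by rw [← det_mul, h1, det_one]), key _ Ci.det (by rw [← det_mul, h2, det_one]), h3⟩

/-- a quartic for the frames -/
noncomputable def q4 : (ZMod 3)[X] := X ^ 4 + X ^ 3 + C 2 * X + 1

theorem frame_pack {α : Type*} [Fintype α] [DecidableEq α] {A : Matrix α α (ZMod 3)}
    {B : Matrix (Fin 4) (Fin 4) (ZMod 3)} (h : Sim A B) (G C : Matrix (Fin 4) (Fin 4) (ZMod 3))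
    (hG : G.det = 1) (hC : C.det = 1) (h3 : B * C * G = G * C)
    (hq : C * C * C * C + C * C * C + (2 : ZMod 3) • C + 1 = 0) : Frame A q4 ∧ IsComm A := by
  have hu : IsUnit G.det := by rw [hG]; exact isUnit_one
  refine ⟨Frame.of_sim h ⟨C, ⟨G, G⁻¹, Matrix.mul_nonsing_inv _ hu, Matrix.nonsing_inv_mul _ hu, h3⟩, hC, ?_⟩,
    IsComm.of_sim h ⟨G, C, hG, hC, h3⟩⟩
  simp only [q4, map_add, map_pow, map_mul, aeval_X, aeval_C, map_one, Algebra.algebraMap_eq_smul_one,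
    Matrix.smul_mul, Matrix.one_mul]
  rw [← hq]
  simp only [pow_succ, pow_zero, Matrix.one_mul]

theorem step_pack {B : Matrix (Fin 4) (Fin 4) (ZMod 3)} {X : Matrix (Fin 3) (Fin 3) (ZMod 3)}
    (C P Pi P2 P2i : Matrix (Fin 4) (Fin 4) (ZMod 3))
    (hX : X.det = -1) (h1 : P * Pi = 1) (h2 : P2 * P2i = 1)
    (h3 : C * P = P * (fromBlocks X 0 0 (1 : Matrix (Fin 1) (Fin 1) (ZMod 3))).submatrix finSumFinEquiv.symm finSumFinEquiv.symm)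
    (h4 : B * C * P2 = P2 * (fromBlocks X 0 0 (1 : Matrix (Fin 1) (Fin 1) (ZMod 3))).submatrix finSumFinEquiv.symm finSumFinEquiv.symm) :
    Step B 1 1 (-1) := by
  have e : Sim ((fromBlocks X 0 0 (1 : Matrix (Fin 1) (Fin 1) (ZMod 3))).submatrix finSumFinEquiv.symm finSumFinEquiv.symm)
      (ext1 X 1) := by
    refine (Sim.reindex _ ((Equiv.sumCongr (Equiv.refl (Fin 3)) finOneEquiv.symm).trans finSumFinEquiv)).trans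
      (Sim.of_eq ?_)
    rw [Matrix.submatrix_submatrix]
    ext (i | i) (j | j) <;> simp [ext1]
  have s1 : Sim C (ext1 X 1) := Sim.trans ⟨P, Pi, h1, mul_eq_one_comm.1 h1, h3⟩ e
  refine Step.mk' (C := C) s1 (Sim.trans ⟨P2, P2i, h2, mul_eq_one_comm.1 h2, h4⟩ e) ?_
  rw [s1.det_eq, ext1_det, hX, mul_one]

theorem wit_two_phi : IsComm (comp (![1, 1] : Fin 2 → ZMod 2)) :=
  isComm_two !![1, 0; 1, 1] !![1, 0; 1, 1] !![1, 1; 0, 1] !![1, 1; 0, 1] (by decide) (by decide) (by decide)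

theorem wit_three_sq : IsComm (comp (![1, 0] : Fin 2 → ZMod 3)) :=
  ⟨!![0, 1; 2, 1], !![0, 1; 2, 2], by rw [Matrix.det_fin_two]; decide, by rw [Matrix.det_fin_two]; decide,
    by decide⟩

theorem wit_two_five : IsComm (fromBlocks (comp (![1, 0] : Fin 2 → ZMod 2)) 0 0
    (comp (![1, 1, 1] : Fin 3 → ZMod 2))) := by
  refine IsComm.of_sim (Sim.reindex _ finSumFinEquiv.symm) (isComm_two
    (!![1, 1, 0, 1, 1; 0, 1, 1, 1, 0; 0, 0, 0, 1, 0; 0, 1, 0, 0, 0; 1, 1, 1, 0, 0] : Matrix (Fin 5) (Fin 5) (ZMod 2)) (!![0, 1, 1, 0, 1; 0, 0, 0, 1, 0; 0, 1, 1, 1, 0; 0, 0, 1, 0, 0; 1, 1, 0, 1, 1] : Matrix (Fin 5) (Fin 5) (ZMod 2))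
    (!![1, 1, 0, 1, 1; 1, 1, 0, 0, 0; 1, 0, 0, 1, 0; 0, 1, 0, 1, 1; 1, 1, 1, 0, 1] : Matrix (Fin 5) (Fin 5) (ZMod 2)) (!![1, 0, 0, 1, 0; 1, 1, 0, 1, 0; 0, 0, 1, 1, 1; 1, 0, 1, 1, 0; 0, 1, 1, 1, 0] : Matrix (Fin 5) (Fin 5) (ZMod 2)) ?_ ?_ ?_) <;> decide +kernel

theorem wit_two_six : IsComm (fromBlocks (comp (![1, 0] : Fin 2 → ZMod 2)) 0 0
    (comp (![1, 0, 0, 0] : Fin 4 → ZMod 2))) := by
  refine IsComm.of_sim (Sim.reindex _ finSumFinEquiv.symm) (isComm_two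
    (!![0, 0, 1, 0, 0, 0; 1, 0, 1, 1, 1, 1; 0, 0, 0, 1, 0, 0; 1, 0, 1, 0, 0, 0; 0, 0, 0, 1, 0, 1; 1, 1, 1, 0, 1, 0] : Matrix (Fin 6) (Fin 6) (ZMod 2)) (!![1, 0, 0, 1, 0, 0; 0, 1, 0, 0, 1, 1; 1, 0, 0, 0, 0, 0; 0, 0, 1, 0, 0, 0; 0, 1, 0, 1, 1, 0; 0, 0, 1, 0, 1, 0] : Matrix (Fin 6) (Fin 6) (ZMod 2))
    (!![0, 1, 1, 1, 0, 0; 0, 0, 0, 0, 0, 1; 1, 1, 1, 0, 1, 0; 0, 1, 1, 0, 0, 0; 0, 0, 1, 1, 1, 0; 1, 1, 0, 0, 1, 1] : Matrix (Fin 6) (Fin 6) (ZMod 2)) (!![1, 1, 0, 0, 1, 1; 0, 1, 1, 1, 0, 1; 0, 1, 1, 0, 0, 1; 1, 0, 0, 1, 0, 0; 1, 1, 1, 1, 1, 1; 0, 1, 0, 0, 0, 0] : Matrix (Fin 6) (Fin 6) (ZMod 2)) ?_ ?_ ?_) <;> decide +kernel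

theorem wit_three_pp1 : (Frame (fromBlocks (comp (![2, 1] : Fin 2 → ZMod 3)) 0 0 (comp (![2, 1] : Fin 2 → ZMod 3))) q4) ∧
    IsComm (fromBlocks (comp (![2, 1] : Fin 2 → ZMod 3)) 0 0 (comp (![2, 1] : Fin 2 → ZMod 3))) := by
  refine frame_pack (Sim.reindex _ finSumFinEquiv.symm) (!![1, 0, 0, 0; 1, 0, 2, 2; 2, 2, 0, 2; 0, 1, 2, 2] : Matrix (Fin 4) (Fin 4) (ZMod 3)) (!![0, 2, 0, 1; 0, 2, 2, 1; 2, 1, 0, 2; 2, 2, 0, 0] : Matrix (Fin 4) (Fin 4) (ZMod 3)) ?_ ?_ ?_ ?_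
  · rw [Matrix.det_succ_row_zero]; simp [Fin.sum_univ_succ, Matrix.det_fin_three, Fin.succAbove]; decide
  · rw [Matrix.det_succ_row_zero]; simp [Fin.sum_univ_succ, Matrix.det_fin_three, Fin.succAbove]; decide
  · decide +kernel
  · decide +kernel

theorem wit_three_pp2 : (Frame (fromBlocks (comp (![2, 2] : Fin 2 → ZMod 3)) 0 0 (comp (![2, 2] : Fin 2 → ZMod 3))) q4) ∧
    IsComm (fromBlocks (comp (![2, 2] : Fin 2 → ZMod 3)) 0 0 (comp (![2, 2] : Fin 2 → ZMod 3))) := by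
  refine frame_pack (Sim.reindex _ finSumFinEquiv.symm) (!![0, 1, 0, 1; 0, 1, 1, 0; 2, 0, 2, 2; 2, 2, 2, 0] : Matrix (Fin 4) (Fin 4) (ZMod 3)) (!![2, 1, 0, 2; 1, 2, 2, 2; 2, 0, 1, 2; 1, 2, 2, 0] : Matrix (Fin 4) (Fin 4) (ZMod 3)) ?_ ?_ ?_ ?_
  · rw [Matrix.det_succ_row_zero]; simp [Fin.sum_univ_succ, Matrix.det_fin_three, Fin.succAbove]; decide
  · rw [Matrix.det_succ_row_zero]; simp [Fin.sum_univ_succ, Matrix.det_fin_three, Fin.succAbove]; decide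
  · decide +kernel
  · decide +kernel

theorem wit_three_step : Step (fromBlocks (comp (![1, 2] : Fin 2 → ZMod 3)) 0 0 (comp (![1, 2] : Fin 2 → ZMod 3)))
    1 1 (-1) := by
  refine Step.of_sim (Sim.reindex _ finSumFinEquiv.symm) (step_pack (X := (!![0, 0, 2; 1, 0, 2; 0, 1, 1] : Matrix (Fin 3) (Fin 3) (ZMod 3)))
    (!![1, 2, 2, 1; 0, 1, 2, 1; 1, 2, 2, 0; 2, 2, 2, 1] : Matrix (Fin 4) (Fin 4) (ZMod 3))
    (!![2, 1, 2, 2; 2, 0, 1, 0; 1, 2, 2, 1; 2, 0, 0, 1] : Matrix (Fin 4) (Fin 4) (ZMod 3)) (!![1, 2, 1, 0; 1, 1, 0, 1; 1, 0, 1, 0; 1, 2, 1, 1] : Matrix (Fin 4) (Fin 4) (ZMod 3))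
    (!![2, 2, 2, 0; 1, 2, 0, 1; 2, 0, 2, 2; 2, 2, 1, 1] : Matrix (Fin 4) (Fin 4) (ZMod 3)) (!![2, 1, 1, 0; 2, 1, 0, 2; 1, 1, 2, 1; 0, 1, 2, 2] : Matrix (Fin 4) (Fin 4) (ZMod 3)) ?_ ?_ ?_ ?_ ?_)
  · rw [Matrix.det_fin_three]; simp; decide
  all_goals decide +kernel

theorem wit_three_step_pp1 : Step (fromBlocks (comp (![2, 1] : Fin 2 → ZMod 3)) 0 0 (comp (![2, 1] : Fin 2 → ZMod 3)))
    1 1 (-1) := by
  refine Step.of_sim (Sim.reindex _ finSumFinEquiv.symm) (step_pack (X := (!![0, 0, 2; 1, 0, 0; 0, 1, 0] : Matrix (Fin 3) (Fin 3) (ZMod 3)))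
    (!![1, 1, 0, 0; 0, 1, 2, 2; 1, 0, 2, 0; 2, 1, 1, 0] : Matrix (Fin 4) (Fin 4) (ZMod 3))
    (!![2, 2, 0, 1; 0, 1, 1, 0; 1, 1, 1, 2; 1, 2, 0, 1] : Matrix (Fin 4) (Fin 4) (ZMod 3)) (!![1, 0, 0, 2; 2, 1, 2, 0; 1, 0, 1, 0; 1, 1, 2, 2] : Matrix (Fin 4) (Fin 4) (ZMod 3))
    (!![2, 2, 2, 1; 1, 1, 1, 1; 0, 2, 1, 1; 2, 0, 2, 2] : Matrix (Fin 4) (Fin 4) (ZMod 3)) (!![0, 2, 2, 1; 0, 1, 0, 1; 1, 2, 1, 1; 2, 2, 0, 0] : Matrix (Fin 4) (Fin 4) (ZMod 3)) ?_ ?_ ?_ ?_ ?_)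
  · rw [Matrix.det_fin_three]; simp; decide
  all_goals decide +kernel

theorem wit_three_step_pp2 : Step (fromBlocks (comp (![2, 2] : Fin 2 → ZMod 3)) 0 0 (comp (![2, 2] : Fin 2 → ZMod 3)))
    1 1 (-1) := by
  refine Step.of_sim (Sim.reindex _ finSumFinEquiv.symm) (step_pack (X := (!![0, 0, 2; 1, 0, 0; 0, 1, 0] : Matrix (Fin 3) (Fin 3) (ZMod 3)))
    (!![2, 1, 1, 1; 1, 1, 2, 2; 2, 1, 1, 0; 1, 1, 1, 0] : Matrix (Fin 4) (Fin 4) (ZMod 3))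
    (!![0, 1, 1, 1; 1, 1, 1, 1; 1, 2, 2, 1; 2, 2, 1, 0] : Matrix (Fin 4) (Fin 4) (ZMod 3)) (!![2, 1, 0, 0; 2, 2, 2, 1; 1, 0, 2, 2; 1, 1, 2, 0] : Matrix (Fin 4) (Fin 4) (ZMod 3))
    (!![2, 2, 1, 0; 2, 1, 2, 0; 1, 2, 2, 2; 1, 0, 0, 1] : Matrix (Fin 4) (Fin 4) (ZMod 3)) (!![1, 1, 0, 0; 0, 2, 1, 1; 2, 0, 1, 1; 2, 2, 0, 1] : Matrix (Fin 4) (Fin 4) (ZMod 3)) ?_ ?_ ?_ ?_ ?_)
  · rw [Matrix.det_fin_three]; simp; decide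
  all_goals decide +kernel

end CfsgLib.Ore
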